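import Mathlib

/-!
Integer polynomials as coefficient lists, for certificates holding for every value of the variable.
-/

set_option autoImplicit false

namespace CfsgLib.ChevTori

/-- Evaluation of a coefficient list (lowest coefficient first). -/
def lev (q : ℤ) : List ℤ → ℤ
  | [] => 0
  | a :: p => a + q * lev q p

/-- Sum of coefficient lists. -/
def ladd : List ℤ → List ℤ → List ℤ
  | [], b => b
  | a, [] => a
  | x :: a, y :: b => (x + y) :: ladd a b

/-- Scalar multiple. -/
def lsc (c : ℤ) (p : List ℤ) : List ℤ := p.map (c * ·)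

/-- Product of coefficient lists. -/
def lmul : List ℤ → List ℤ → List ℤ
  | [], _ => []
  | x :: a, b => ladd (lsc x b) (0 :: lmul a b)

/-- Sum of a finite family. -/
def lsum {n : ℕ} (f : Fin n → List ℤ) : List ℤ := ((List.finRange n).map f).foldr ladd []

/-- All coefficients vanish. -/
def lzero (p : List ℤ) : Bool := p.all (· == 0)

/-- Equality as polynomials. -/
def leq (a b : List ℤ) : Bool := lzero (ladd a (lsc (-1) b))

variable (q : ℤ)

theorem lev_ladd : ∀ a b, lev q (ladd a b) = lev q a + lev q b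
  | [], b => by simp [ladd, lev]
  | x :: a, [] => by simp [ladd, lev]
  | x :: a, y :: b => by
    simp only [ladd, lev, lev_ladd a b]
    ring

theorem lev_lsc (c : ℤ) : ∀ p, lev q (lsc c p) = c * lev q p
  | [] => by simp [lsc, lev]
  | x :: p => by
    have := lev_lsc c p
    simp only [lsc] at this
    simp only [lsc, List.map_cons, lev, this]
    ring

theorem lev_lmul : ∀ a b, lev q (lmul a b) = lev q a * lev q b
  | [], b => by simp [lmul, lev]
  | x :: a, b => by
    simp only [lmul, lev_ladd, lev_lsc, lev, lev_lmul a b]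
    ring

theorem lev_lsum {n : ℕ} (f : Fin n → List ℤ) : lev q (lsum f) = ∑ i, lev q (f i) := by
  rw [Fin.sum_univ_def, lsum]
  induction List.finRange n with
  | nil => rfl
  | cons a l ih => simp [lev_ladd, ih]

theorem lev_of_lzero : ∀ p, lzero p = true → lev q p = 0
  | [], _ => rfl
  | x :: p, h => by
    simp only [lzero, List.all_cons, Bool.and_eq_true, beq_iff_eq] at h
    simp [lev, h.1, lev_of_lzero p (by simpa [lzero] using h.2)]

theorem lev_eq_of_leq {a b : List ℤ} (h : leq a b = true) : lev q a = lev q b := by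
  have := lev_of_lzero q _ h
  rw [lev_ladd, lev_lsc] at this
  linarith

/-- Values at `q` and at `1` agree modulo `q - 1`. -/
theorem sub_one_dvd : ∀ p, q - 1 ∣ lev q p - lev 1 p
  | [] => by simp [lev]
  | x :: p => by
    obtain ⟨k, hk⟩ := sub_one_dvd p
    exact ⟨lev q p + k, by simp only [lev]; linear_combination hk⟩

theorem lev_modEq_head (p : List ℤ) : q ∣ lev q p - p.headD 0 := by
  cases p with
  | nil => simp [lev]
  | cons x p => exact ⟨lev q p, by simp [lev]⟩

/-- Short polynomials with small coefficients are small. -/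
theorem abs_lev_le {B : ℤ} (hq : 2 ≤ q) (hB : 0 ≤ B) : ∀ (p : List ℤ) (l : ℕ), p.length ≤ l →
    (∀ c ∈ p, |c| ≤ B) → (q - 1) * |lev q p| ≤ B * (q ^ l - 1)
  | [], l, _, _ => by
    have : (1 : ℤ) ≤ q ^ l := one_le_pow₀ (by omega)
    simp only [lev, abs_zero, mul_zero]
    exact mul_nonneg hB (by omega)
  | x :: p, 0, h, _ => by simp at h
  | x :: p, l + 1, h, hc => by
    simp only [List.length_cons, add_le_add_iff_right] at h
    rw [List.forall_mem_cons] at hc
    have ih := abs_lev_le hq hB p l h hc.2
    have h1 : |lev q (x :: p)| ≤ B + q * |lev q p| := by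
      simp only [lev]
      refine (abs_add_le _ _).trans (add_le_add hc.1 ?_)
      rw [abs_mul, abs_of_nonneg (by omega : (0 : ℤ) ≤ q)]
    calc (q - 1) * |lev q (x :: p)| ≤ (q - 1) * (B + q * |lev q p|) :=
          mul_le_mul_of_nonneg_left h1 (by omega)
      _ = (q - 1) * B + q * ((q - 1) * |lev q p|) := by ring
      _ ≤ (q - 1) * B + q * (B * (q ^ l - 1)) := by gcongr
      _ = B * (q ^ (l + 1) - 1) := by ring

/-- A polynomial with coefficients below `q` vanishing at `q` is zero. -/
theorem lzero_of_lev {B : ℤ} (hB : B < q) (hq : 0 < q) : ∀ p : List ℤ, (∀ c ∈ p, |c| ≤ B) →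
    lev q p = 0 → ∀ c ∈ p, c = 0
  | [], _, _ => by simp
  | x :: p, hc, h => by
    rw [List.forall_mem_cons] at hc
    simp only [lev] at h
    have hd : q ∣ x := ⟨-lev q p, by linarith⟩
    have hx : x = 0 := Int.eq_zero_of_abs_lt_dvd hd (lt_of_le_of_lt hc.1 hB)
    rw [List.forall_mem_cons]
    refine ⟨hx, lzero_of_lev hB hq p hc.2 ?_⟩
    rw [hx, zero_add] at h
    exact (mul_eq_zero.1 h).resolve_left hq.ne'

/-- Coefficientwise difference of lists of the same length. -/
def lsub (a b : List ℤ) : List ℤ := List.zipWith (· - ·) a b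

theorem lev_lsub : ∀ a b : List ℤ, a.length = b.length → lev q (lsub a b) = lev q a - lev q b
  | [], [], _ => by simp [lsub, lev]
  | x :: a, y :: b, h => by
    have := lev_lsub a b (by simpa using h)
    simp only [lsub] at this
    simp only [lsub, List.zipWith_cons_cons, lev, this]
    ring

theorem lsub_bound {B : ℤ} : ∀ a b : List ℤ, (∀ c ∈ a, |c| ≤ B) → (∀ c ∈ b, |c| ≤ B) →
    ∀ c ∈ lsub a b, |c| ≤ 2 * B
  | [], b, _, _ => by simp [lsub]
  | x :: a, [], _, _ => by simp [lsub]
  | x :: a, y :: b, ha, hb => by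
    rw [List.forall_mem_cons] at ha hb
    simp only [lsub, List.zipWith_cons_cons, List.forall_mem_cons]
    refine ⟨(abs_sub x y).trans (by linarith [ha.1, hb.1]), ?_⟩
    exact lsub_bound a b ha.2 hb.2

theorem eq_of_lsub_zero : ∀ a b : List ℤ, a.length = b.length → (∀ c ∈ lsub a b, c = 0) → a = b
  | [], [], _, _ => rfl
  | x :: a, y :: b, h, h0 => by
    simp only [lsub, List.zipWith_cons_cons, List.forall_mem_cons, sub_eq_zero] at h0
    rw [h0.1, eq_of_lsub_zero a b (by simpa using h) h0.2]

end CfsgLib.ChevTori
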