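import Mathlib
import Cfsg.Agent.ChevSteinberg.SteinbergTorus

/-!
The action of the Weyl words on the torus of a system with Steinberg relations, through integer
matrices.
-/

set_option autoImplicit false

namespace CfsgLib.ChevTori

open Cfsg.Lie CfsgLib.Chevalley CfsgLib.ChevSteinberg

/-- The action of an integer matrix on a power of a commutative group. -/
def matAct {l : ℕ} {A : Type*} [CommGroup A] (M : Matrix (Fin l) (Fin l) ℤ) :
    (Fin l → A) →* (Fin l → A) where
  toFun c k := ∏ j, c j ^ M k j
  map_one' := by funext k; simp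
  map_mul' a b := by funext k; simp [mul_zpow, Finset.prod_mul_distrib]

theorem matAct_one {l : ℕ} {A : Type*} [CommGroup A] (c : Fin l → A) :
    matAct (1 : Matrix (Fin l) (Fin l) ℤ) c = c := by
  funext k
  show ∏ j, c j ^ (1 : Matrix (Fin l) (Fin l) ℤ) k j = c k
  rw [Finset.prod_eq_single k (fun j _ hj => by simp [Matrix.one_apply_ne' hj])
    (fun h => absurd (Finset.mem_univ k) h)]
  simp

theorem prod_zpow_sum {l : ℕ} {A : Type*} [CommGroup A] (a : A) (g : Fin l → ℤ) :
    (∏ i, a ^ g i) = a ^ ∑ i, g i := by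
  classical
  induction (Finset.univ : Finset (Fin l)) using Finset.induction_on with
  | empty => simp
  | insert k s hk ih => rw [Finset.prod_insert hk, Finset.sum_insert hk, zpow_add, ih]

theorem matAct_mul {l : ℕ} {A : Type*} [CommGroup A] (M N : Matrix (Fin l) (Fin l) ℤ)
    (c : Fin l → A) : matAct (M * N) c = matAct M (matAct N c) := by
  funext k
  show ∏ j, c j ^ (M * N) k j = ∏ i, (∏ j, c j ^ N i j) ^ M k i
  simp only [← Finset.prod_zpow, ← zpow_mul]
  rw [Finset.prod_comm]
  refine Finset.prod_congr rfl fun j _ => ?_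
  rw [Matrix.mul_apply, prod_zpow_sum]
  exact congrArg _ (Finset.sum_congr rfl fun i _ => mul_comm _ _)

variable (D : ChevalleyDatum)

/-- The reflection on coroot coordinates. -/
def sMat (i : Fin D.rank) : Matrix (Fin D.rank) (Fin D.rank) ℤ :=
  Matrix.of fun k j =>
    (if k = j then 1 else 0) - if k = i then D.cartan j (D.simple i) else 0

/-- The product along a word. -/
def wMat (L : List (Fin D.rank)) : Matrix (Fin D.rank) (Fin D.rank) ℤ := (L.map (sMat D)).prod

variable {D}
variable {S : Sys D} {F : Type*} [Field F] {G : Type*} [Group G] (T : StSys S F G)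
  (hmul : T.MulH) (W : Witness S)
include W

theorem nT_conj_torHom (i : Fin D.rank) (c : Fin D.rank → Fˣ) :
    T.nT (D.simple i) 1 * T.torHom hmul W c * (T.nT (D.simple i) 1)⁻¹ =
      T.torHom hmul W (matAct (sMat D i) c) := by
  have : (MulAut.conj (T.nT (D.simple i) 1)).toMonoidHom.comp (T.torHom hmul W) =
      (T.torHom hmul W).comp (matAct (sMat D i)) := by
    refine MonoidHom.pi_ext fun j a => ?_
    rw [MonoidHom.comp_apply, MonoidHom.comp_apply, T.torHom_mulSingle,
      MulEquiv.coe_toMonoidHom, MulAut.conj_apply, T.nT_conj_hT W i j a.ne_zero, T.hT_one,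
      one_mul, mul_one]
    have e : matAct (sMat D i) (Pi.mulSingle j a) =
        Pi.mulSingle i (a ^ D.cartan j (D.simple i))⁻¹ * Pi.mulSingle j a := by
      funext k
      show ∏ m, (Pi.mulSingle j a : Fin D.rank → Fˣ) m ^ sMat D i k m = _
      rw [Finset.prod_eq_single j (fun m _ hm => by rw [Pi.mulSingle_eq_of_ne hm, one_zpow])
        (fun h => absurd (Finset.mem_univ j) h), Pi.mulSingle_eq_same, Pi.mul_apply, sMat,
        Matrix.of_apply]
      rcases eq_or_ne k i with rfl | h1
      · rcases eq_or_ne k j with rfl | h2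
        · simp [zpow_sub, mul_comm]
        · simp [h2, zpow_neg]
      · rcases eq_or_ne k j with rfl | h2
        · simp [h1]
        · simp [h1, h2]
    rw [e, map_mul, Pi.mulSingle_inv, map_inv, T.torHom_mulSingle, T.torHom_mulSingle,
      Units.val_zpow_eq_zpow_val]
  exact DFunLike.congr_fun this c

theorem wT_conj_torHom : ∀ (L : List (Fin D.rank)) (c : Fin D.rank → Fˣ),
    T.wT L * T.torHom hmul W c * (T.wT L)⁻¹ = T.torHom hmul W (matAct (wMat D L) c)
  | [], c => by simp [StSys.wT, wMat, matAct_one]
  | i :: L, c => by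
    rw [T.wT_cons, wMat, List.map_cons, List.prod_cons, matAct_mul,
      ← nT_conj_torHom T hmul W i, ← wMat, ← wT_conj_torHom L c]
    group

end CfsgLib.ChevTori
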