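import Mathlib
import Cfsg.Agent.ChevTori.Poly
import Cfsg.Agent.ChevTori.Weyl
import Cfsg.Agent.Chevalley.Weyl

/-!
Certificates for a Weyl element with cyclic twisted torus, and what they give for each value of
the variable.
-/

set_option autoImplicit false

namespace CfsgLib.ChevTori

open Cfsg.Lie CfsgLib.Chevalley

/-- The matrix with the given rows. -/
def ofRows (l : ℕ) (R : List (List ℤ)) : Matrix (Fin l) (Fin l) ℤ :=
  Matrix.of fun k j => (R.getD k []).getD j 0

/-- The data of a certificate. -/
structure TorusCert (D : ChevalleyDatum) where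
  /-- the Weyl word -/
  word : List (Fin D.rank)
  /-- the matrices of the tails of the word -/
  mats : List (List (List ℤ))
  /-- a cyclic covector -/
  u : List ℤ
  /-- the exponents of a generator -/
  v : List (List ℤ)
  /-- the order -/
  N : List ℤ
  /-- quotients -/
  e : List (List ℤ)
  /-- coefficients of the order -/
  b : List (List ℤ)
  /-- coefficients of the inverse -/
  B : List (List (List ℤ))
  /-- the exponent of the centre -/
  d : ℕ
  /-- `d` in the ideal -/
  al : List (List ℤ)
  /-- `q - 1` in the ideal -/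
  be : List (List ℤ)
  /-- the exponents on all roots -/
  roots : List (List ℤ)

/-- A list of naturals below a bitset. -/
def nodupBits : List ℕ → ℕ → Bool
  | [], _ => true
  | x :: L, acc => !acc.testBit x && nodupBits L (acc ||| 1 <<< x)

theorem nodupBits_spec : ∀ (L : List ℕ) (acc : ℕ), nodupBits L acc = true →
    L.Nodup ∧ ∀ x ∈ L, acc.testBit x = false
  | [], _, _ => by simp
  | x :: L, acc, h => by
    simp only [nodupBits, Bool.and_eq_true, Bool.not_eq_true'] at h
    obtain ⟨h1, h2⟩ := nodupBits_spec L _ h.2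
    refine ⟨List.nodup_cons.2 ⟨fun hx => ?_, h1⟩, List.forall_mem_cons.2 ⟨h.1, fun y hy => ?_⟩⟩
    · have := h2 x hx
      simp [Nat.testBit_or, Nat.one_shiftLeft, Nat.testBit_two_pow_self] at this
    · have := h2 y hy
      simp only [Nat.testBit_or, Bool.or_eq_false_iff] at this
      exact this.1

variable {D : ChevalleyDatum} (C : TorusCert D)

namespace TorusCert

/-- The matrix of the word. -/
def M : Matrix (Fin D.rank) (Fin D.rank) ℤ := ofRows D.rank (C.mats.headD [])

/-- The entries of `q M - 1`. -/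
def relP (k j : Fin D.rank) : List ℤ := [if k = j then -1 else 0, C.M k j]

/-- The exponent of the generator on a root. -/
def rootP (r : ℕ) : List ℤ :=
  lsum fun j : Fin D.rank => lsc (D.cartan j r) (C.v.getD j [])

/-- Check of the chain of matrices. -/
def chkWord {D : ChevalleyDatum} : List (Fin D.rank) → List (List (List ℤ)) → Bool
  | [], [R] => decide (ofRows D.rank R = 1)
  | i :: L, R :: R' :: Rs =>
    decide (ofRows D.rank R = sMat D i * ofRows D.rank R') && chkWord L (R' :: Rs)
  | _, _ => false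

/-- The algebraic identities. -/
def chkAlg : Bool :=
  ((List.finRange D.rank).all fun k =>
    leq (lsum fun j => lmul (C.relP k j) (C.v.getD j [])) (lmul C.N (C.e.getD k []))) &&
  ((List.finRange D.rank).all fun k => (List.finRange D.rank).all fun j =>
    leq (ladd [if k = j then 1 else 0] (lsc (-(C.u.getD j 0)) (C.v.getD k [])))
      (lsum fun i => lmul ((C.B.getD k []).getD i []) (C.relP i j))) &&
  ((List.finRange D.rank).all fun j =>
    leq (lsc (C.u.getD j 0) C.N) (lsum fun i => lmul (C.b.getD i []) (C.relP i j))) &&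
  leq (lsum fun k : Fin D.rank => lsc (C.u.getD k 0) (C.v.getD k [])) [1] &&
  leq (ladd (lmul (C.al.getD 0 []) C.N)
    (lsum fun k : Fin D.rank => lmul (C.al.getD (k + 1) []) (C.rootP (D.simple k)))) [(C.d : ℤ)] &&
  leq (ladd (lmul (C.be.getD 0 []) C.N)
    (lsum fun k : Fin D.rank => lmul (C.be.getD (k + 1) []) (C.rootP (D.simple k)))) [-1, 1] &&
  decide ((C.d : ℤ) ∣ lev 1 C.N) &&
  ((List.finRange D.rank).all fun k => decide ((C.d : ℤ) ∣ lev 1 (C.rootP (D.simple k)))) &&
  decide (C.N.headD 0 = 1)

/-- The table of exponents on roots. -/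
def chkTable : Bool :=
  decide (C.roots.length = D.nroots) &&
  (List.range D.nroots).all fun r => decide ((C.roots.getD r []).length = D.rank) &&
    (C.roots.getD r []).all (fun c => decide (|c| ≤ 2)) && leq (C.rootP r) (C.roots.getD r [])

/-- Distinct residues at a given value. -/
def chkAt (q : ℤ) : Bool :=
  nodupBits (C.roots.map fun p => (lev q p % lev q C.N).toNat) 0

/-- The residue of a root at a given value. -/
def resAt (q : ℤ) (r : ℕ) : ℤ := lev q (C.roots.getD r []) % lev q C.N

/-- The tuples taking one entry from each list. -/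
def choices : List (List ℕ) → List (List ℕ)
  | [] => [[]]
  | A :: As => A.flatMap fun a => (choices As).map (a :: ·)

/-- No nontrivial linear permutation of the roots keeps the residues, and no residue vanishes. -/
def chkStab (V : ℕ → ℕ → ℤ) (q : ℤ) : Bool :=
  ((List.range D.nroots).all fun r => !(C.resAt q r == 0)) &&
  (choices ((List.range D.rank).map fun k =>
    (List.range D.nroots).filter fun s => C.resAt q s == C.resAt q (D.simple k))).all fun a =>
      a == (List.range D.rank).map D.simple ||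
        (List.range D.nroots).any fun r => (List.range D.nroots).all fun s =>
          (List.finRange D.rank).any fun j =>
            !(V j s == (List.finRange D.rank).foldr
              (fun (m : Fin D.rank) acc => V m r * V j (a.getD m 0) + acc) 0)

/-- All checks. -/
def chk (V : ℕ → ℕ → ℤ) : Bool :=
  chkWord C.word C.mats && C.chkAlg && C.chkTable && ([3, 4, 5] : List ℤ).all C.chkAt &&
    C.chkStab V 2

theorem mem_choices : ∀ (As : List (List ℕ)) (a : List ℕ), a.length = As.length →
    (∀ i < As.length, a.getD i 0 ∈ As.getD i []) → a ∈ choices As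
  | [], [], _, _ => by simp [choices]
  | A :: As, x :: a, h, hm => by
    simp only [choices, List.mem_flatMap, List.mem_map]
    refine ⟨x, by simpa using hm 0 (by simp), a, mem_choices As a (by simpa using h) ?_, rfl⟩
    exact fun i hi => by simpa using hm (i + 1) (by simpa using hi)

theorem chkWord_spec : ∀ (L : List (Fin D.rank)) (Ms : List (List (List ℤ))),
    chkWord L Ms = true → ofRows D.rank (Ms.headD []) = wMat D L
  | [], [R], h => by simpa [chkWord, wMat] using h
  | i :: L, R :: R' :: Rs, h => by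
    simp only [chkWord, Bool.and_eq_true, decide_eq_true_eq] at h
    have := chkWord_spec L (R' :: Rs) h.2
    simp only [List.headD_cons] at this ⊢
    rw [h.1, this]
    simp [wMat]
  | [], [], h => by simp [chkWord] at h
  | [], _ :: _ :: _, h => by simp [chkWord] at h
  | _ :: _, [], h => by simp [chkWord] at h
  | _ :: _, [_], h => by simp [chkWord] at h

/-- What the checks give at a value of `q`. -/
structure Facts (S : Sys D) (q : ℤ) : Prop where
  hM : C.M = wMat D C.word
  fix : ∀ k : Fin D.rank, ∃ e, ∑ j : Fin D.rank, q * C.M k j * lev q (C.v.getD j []) -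
    lev q (C.v.getD k []) = lev q C.N * e
  inv : ∀ k : Fin D.rank, ∃ B : Fin D.rank → ℤ, ∀ j : Fin D.rank,
    (if k = j then 1 else 0) - lev q (C.v.getD k []) * C.u.getD j 0 =
      ∑ i, B i * (q * C.M i j - if i = j then 1 else 0)
  ord : ∃ b : Fin D.rank → ℤ, ∀ j : Fin D.rank, lev q C.N * C.u.getD j 0 =
    ∑ i, b i * (q * C.M i j - if i = j then 1 else 0)
  comb_d : ∃ (a : ℤ) (c : Fin D.rank → ℤ),
    a * lev q C.N + ∑ k, c k * lev q (C.rootP (D.simple k)) = C.d
  comb_q : ∃ (a : ℤ) (c : Fin D.rank → ℤ),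
    a * lev q C.N + ∑ k, c k * lev q (C.rootP (D.simple k)) = q - 1
  gcd_dvd : ∀ k : Fin D.rank, (Int.gcd C.d (q - 1) : ℤ) ∣ lev q (C.rootP (D.simple k))
  gcd_dvd_N : (Int.gcd C.d (q - 1) : ℤ) ∣ lev q C.N
  head : q ∣ lev q C.N - 1
  nonzero : ∀ r < D.nroots, ¬ lev q C.N ∣ lev q (C.rootP r)
  stab : ∀ L : List (Fin D.rank), (∀ r : Fin D.nroots,
    lev q C.N ∣ lev q (C.rootP (S.wperm L r)) - lev q (C.rootP r)) → S.wperm L = 1

theorem lev_relP (q : ℤ) (k j : Fin D.rank) :
    lev q (C.relP k j) = q * C.M k j - if k = j then 1 else 0 := by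
  simp only [relP, lev]
  split_ifs <;> ring

theorem facts (S : Sys D) (h : C.chk S.vec = true) (q : ℤ) (hq : 2 ≤ q)
    (hbig : 6 ≤ q → 4 * (q ^ D.rank - 1) < (q - 1) * lev q C.N) : C.Facts S q := by
  simp only [chk, Bool.and_eq_true] at h
  obtain ⟨⟨⟨⟨hw, ha⟩, ht⟩, hsm⟩, hst⟩ := h
  simp only [chkAlg, Bool.and_eq_true, List.all_eq_true, List.mem_finRange, forall_const,
    decide_eq_true_eq] at ha
  obtain ⟨⟨⟨⟨⟨⟨⟨⟨h1, h2⟩, h3⟩, -⟩, h5⟩, h6⟩, h7⟩, h8⟩, h9⟩ := ha
  simp only [chkTable, Bool.and_eq_true, List.all_eq_true, List.mem_range,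
    decide_eq_true_eq] at ht
  obtain ⟨hlen, ht⟩ := ht
  have hroot : ∀ r < D.nroots, lev q (C.rootP r) = lev q (C.roots.getD r []) := fun r hr =>
    lev_eq_of_leq q (ht r hr).2
  have hgcd : ∀ p, (C.d : ℤ) ∣ lev 1 p → (Int.gcd C.d (q - 1) : ℤ) ∣ lev q p := fun p hp => by
    have a1 := (Int.gcd_dvd_left (C.d : ℤ) (q - 1)).trans hp
    have a2 := (Int.gcd_dvd_right (C.d : ℤ) (q - 1)).trans (sub_one_dvd q p)
    simpa using dvd_add a2 a1
  have hdist : 3 ≤ q → ∀ r < D.nroots, ∀ s < D.nroots,
      lev q C.N ∣ lev q (C.rootP r) - lev q (C.rootP s) → r = s := by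
    intro hq3 r hr s hs hdvd
    rw [hroot r hr, hroot s hs] at hdvd
    set P := C.roots.getD r [] with hP
    set Q := C.roots.getD s [] with hQ
    obtain ⟨⟨hPl, hPb⟩, -⟩ := ht r hr
    obtain ⟨⟨hQl, hQb⟩, -⟩ := ht s hs
    rw [← hP] at hPl hPb
    rw [← hQ] at hQl hQb
    have hinjq : ∀ q₀ ∈ ([3, 4, 5] : List ℤ),
        lev q₀ P % lev q₀ C.N = lev q₀ Q % lev q₀ C.N → r = s := by
      intro q₀ hq₀ he
      have := (nodupBits_spec _ _ (List.all_eq_true.1 hsm q₀ hq₀)).1
      refine (this.getElem_inj_iff (hi := by simp [hlen, hr]) (hj := by simp [hlen, hs])).1 ?_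
      simp only [List.getElem_map]
      rw [← List.getD_eq_getElem C.roots [] (by omega), ← List.getD_eq_getElem C.roots [] (by omega),
        ← hP, ← hQ, he]
    by_cases hq6 : 6 ≤ q
    · have hlenPQ : P.length = Q.length := by rw [hPl, hQl]
      have hb : ∀ c ∈ lsub P Q, |c| ≤ 4 := lsub_bound P Q hPb hQb
      have hl : (lsub P Q).length ≤ D.rank := by simp [lsub, hPl, hQl]
      have he : lev q (lsub P Q) = 0 := by
        rw [lev_lsub q P Q hlenPQ]
        refine Int.eq_zero_of_abs_lt_dvd hdvd ?_
        have h1 := abs_lev_le q hq (by norm_num : (0 : ℤ) ≤ 4) _ _ hl hb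
        rw [lev_lsub q P Q hlenPQ] at h1
        exact lt_of_mul_lt_mul_left (lt_of_le_of_lt h1 (hbig hq6)) (by omega)
      have hPQ : P = Q := eq_of_lsub_zero P Q hlenPQ
        (lzero_of_lev q (B := 4) (by omega) (by omega) _ hb he)
      exact hinjq 3 (by simp) (by rw [hPQ])
    · have hmem : q ∈ ([3, 4, 5] : List ℤ) := by simp; omega
      exact hinjq q hmem (Int.emod_eq_emod_iff_emod_sub_eq_zero.2 (Int.emod_eq_zero_of_dvd hdvd))
  have hneg : ∀ r < D.nroots, lev q (C.rootP (D.neg r)) = -lev q (C.rootP r) := by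
    intro r hr
    simp only [rootP, lev_lsum, lev_lsc, ← Finset.sum_neg_distrib]
    exact Finset.sum_congr rfl fun j _ => by rw [S.cartan_neg hr j.isLt, neg_mul]
  refine ⟨chkWord_spec _ _ hw, fun k => ?_, fun k => ?_, ?_, ?_, ?_, fun k => hgcd _ (h8 k),
    hgcd _ h7, ?_, fun r hr hdvd => ?_, fun L hL => ?_⟩
  · refine ⟨lev q (C.e.getD k []), ?_⟩
    have := lev_eq_of_leq q (h1 k)
    rw [lev_lsum, lev_lmul] at this
    rw [← this]
    simp only [lev_lmul, lev_relP, sub_mul, Finset.sum_sub_distrib, ite_mul, one_mul, zero_mul,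
      Finset.sum_ite_eq, Finset.mem_univ, if_true]
  · refine ⟨fun i => lev q ((C.B.getD k []).getD i []), fun j => ?_⟩
    have := lev_eq_of_leq q (h2 k j)
    rw [lev_lsum, lev_ladd, lev_lsc] at this
    simp only [lev_lmul, lev_relP, lev, mul_zero, add_zero] at this
    rw [← this]; ring
  · refine ⟨fun i => lev q (C.b.getD i []), fun j => ?_⟩
    have := lev_eq_of_leq q (h3 j)
    rw [lev_lsum, lev_lsc] at this
    simp only [lev_lmul, lev_relP] at this
    rw [← this]; ring
  · refine ⟨lev q (C.al.getD 0 []), fun k => lev q (C.al.getD (k + 1) []), ?_⟩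
    have := lev_eq_of_leq q h5
    rw [lev_ladd, lev_lsum, lev_lmul] at this
    simpa [lev_lmul, lev] using this
  · refine ⟨lev q (C.be.getD 0 []), fun k => lev q (C.be.getD (k + 1) []), ?_⟩
    have := lev_eq_of_leq q h6
    rw [lev_ladd, lev_lsum, lev_lmul] at this
    simp only [lev_lmul, lev] at this
    rw [this]; ring
  · have := lev_modEq_head q C.N
    rwa [h9] at this
  · have h3 : q = 2 → False := by
      intro e
      simp only [chkStab, Bool.and_eq_true, List.all_eq_true, List.mem_range, Bool.not_eq_true',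
        beq_eq_false_iff_ne] at hst
      refine hst.1 r hr ?_
      rw [resAt, ← e, ← hroot r hr]
      exact Int.emod_eq_zero_of_dvd hdvd
    have hq3 : 3 ≤ q := by
      by_contra hlt
      exact h3 (by omega)
    refine S.wf.neg_ne r hr (hdist hq3 (D.neg r) (S.wf.neg_lt r hr) r hr ?_)
    rw [hneg r hr]
    exact dvd_sub (dvd_neg.2 hdvd) hdvd
  · by_cases hq3 : 3 ≤ q
    · refine Equiv.ext fun r => Fin.ext ?_
      exact hdist hq3 _ (Fin.isLt _) _ r.isLt (hL r)
    have e : q = 2 := by omega
    simp only [chkStab, Bool.and_eq_true, List.all_eq_true, List.mem_range, Bool.or_eq_true,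
      beq_iff_eq, List.any_eq_true, Bool.not_eq_true', beq_eq_false_iff_ne] at hst
    have hres : ∀ r : Fin D.nroots, C.resAt 2 (S.wperm L r) = C.resAt 2 r := fun r => by
      rw [resAt, resAt, ← e, ← hroot _ (Fin.isLt _), ← hroot _ r.isLt]
      exact Int.emod_eq_emod_iff_emod_sub_eq_zero.2 (Int.emod_eq_zero_of_dvd (hL r))
    let a : List ℕ := (List.finRange D.rank).map fun k => (S.wperm L (S.simpleF k) : ℕ)
    have ha : ∀ (m : ℕ) (hm : m < D.rank), a.getD m 0 = (S.wperm L (S.simpleF ⟨m, hm⟩) : ℕ) :=
      fun m hm => by simp [a, List.getD_eq_getElem?_getD, hm]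
    have hmem : a ∈ choices ((List.range D.rank).map fun k =>
        (List.range D.nroots).filter fun s => C.resAt 2 s == C.resAt 2 (D.simple k)) := by
      refine mem_choices _ _ (by simp [a]) fun i hi => ?_
      simp only [List.length_map, List.length_range] at hi
      rw [ha i hi]
      simp only [List.getD_eq_getElem?_getD, List.getElem?_map, List.getElem?_range hi,
        Option.map_some, Option.getD_some, List.mem_filter, List.mem_range, beq_iff_eq]
      exact ⟨Fin.isLt _, hres (S.simpleF ⟨i, hi⟩)⟩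
    refine Equiv.ext fun r => Fin.ext (S.vec_inj _ (Fin.isLt _) _ r.isLt fun j hj => ?_)
    rcases hst.2 a hmem with heq | ⟨r', hr', hbad⟩
    · have hfix : ∀ m : Fin D.rank, (S.wperm L (S.simpleF m) : ℕ) = D.simple m := fun m => by
        rw [← ha m m.isLt, heq]
        simp [List.getD_eq_getElem?_getD, m.isLt]
      rw [S.vec_wperm L r j hj]
      calc ∑ m : Fin D.rank, S.vec m r * S.vec j (S.wperm L (S.simpleF m))
          = ∑ m : Fin D.rank, S.vec m r * (if j = (m : ℕ) then 1 else 0) :=
            Finset.sum_congr rfl fun m _ => by rw [hfix m, S.vec_simple m m.isLt j hj]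
        _ = S.vec j r := by
          rw [Finset.sum_eq_single (⟨j, hj⟩ : Fin D.rank)]
          · simp
          · intro b _ hb
            rw [if_neg fun e => hb (Fin.ext e.symm), mul_zero]
          · simp
    · obtain ⟨j', -, hj'⟩ := hbad (S.wperm L ⟨r', hr'⟩) (Fin.isLt _)
      refine absurd ?_ hj'
      rw [S.vec_wperm L ⟨r', hr'⟩ j' j'.isLt]
      rw [Fin.sum_univ_def]
      clear hbad hj'
      induction List.finRange D.rank with
      | nil => rfl
      | cons m l ih => simp only [List.map_cons, List.sum_cons, List.foldr_cons, ha m m.isLt, ih]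

end TorusCert

end CfsgLib.ChevTori
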