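import Cfsg.Agent.ChevTori.Cert
import Cfsg.Agent.Chevalley.All

/-! Certificates of cyclic twisted tori of F4, E6, E7, E8. -/

set_option autoImplicit false

namespace CfsgLib.ChevTori

open Cfsg.Lie CfsgLib.Chevalley

/-- Certificate for F4. -/
def certF4 : TorusCert chevF4 where
  word := [⟨1, by decide⟩, ⟨0, by decide⟩, ⟨3, by decide⟩, ⟨0, by decide⟩, ⟨2, by decide⟩, ⟨3, by decide⟩, ⟨3, by decide⟩, ⟨2, by decide⟩, ⟨2, by decide⟩, ⟨0, by decide⟩, ⟨1, by decide⟩, ⟨2, by decide⟩]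
  mats := [[[0, 1, -1, 1], [1, 0, -1, 2], [2, 0, -1, 2], [2, 0, -1, 1]], [[0, 1, -1, 1], [1, 1, -1, 1],
    [2, 0, -1, 2], [2, 0, -1, 1]], [[1, 0, 0, 0], [1, 1, -1, 1], [2, 0, -1, 2], [2, 0, -1, 1]],
    [[1, 0, 0, 0], [1, 1, -1, 1], [2, 0, -1, 2], [0, 0, 0, 1]], [[0, 1, -1, 1], [1, 1, -1, 1],
    [2, 0, -1, 2], [0, 0, 0, 1]], [[0, 1, -1, 1], [1, 1, -1, 1], [0, 2, -1, 1], [0, 0, 0, 1]],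
    [[0, 1, -1, 1], [1, 1, -1, 1], [0, 2, -1, 1], [0, 2, -1, 0]], [[0, 1, -1, 1], [1, 1, -1, 1],
    [0, 2, -1, 1], [0, 0, 0, 1]], [[0, 1, -1, 1], [1, 1, -1, 1], [2, 0, -1, 2], [0, 0, 0, 1]],
    [[0, 1, -1, 1], [1, 1, -1, 1], [0, 2, -1, 1], [0, 0, 0, 1]], [[1, 0, 0, 0], [1, 1, -1, 1],
    [0, 2, -1, 1], [0, 0, 0, 1]], [[1, 0, 0, 0], [0, 1, 0, 0], [0, 2, -1, 1], [0, 0, 0, 1]], [[1,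
    0, 0, 0], [0, 1, 0, 0], [0, 0, 1, 0], [0, 0, 0, 1]]]
  u := [1, 0, 0, 0]
  v := [[1], [1, 0, 1, -1], [1, 1, 1, -1], [0, 1, 0, -1]]
  N := [1, 0, 0, 0, 1]
  e := [[-1], [-1], [-1], []]
  b := [[-1, 0, -1], [0, -1, 0, -1], [0, 1, 1, 1], [0, -1, -1]]
  B := [[[], [], [], []], [[1, -1], [-1, 1, -1], [0, 0, 1], [0, -1]], [[1, -1], [0, 1, -1], [-1, 0,
    1], [0, -1]], [[0, -1], [0, 0, -1], [0, 1, 1], [-1, -1]]]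
  d := 1
  al := [[0, -1], [1, 1, 1], [], [], []]
  be := [[0, 1, -1], [-1, 0, 0, 1], [], [], []]
  roots := [[0, -1, 0, 1], [-1, 0, -1, 0], [-1, 1, -1, 1], [-1, 0, 0, 0], [-1, -1, 1, -1], [-1, 0, 1,
    0], [-2, 1, 0, -1], [0, 0, -1, 1], [0, -1, 0, 0], [0, 0, 0, 1], [-1, 1, -1, 0], [0, -1, 1,
    0], [-1, 0, 0, -1], [-1, 1, 0, 0], [-1, 0, 1, -1], [1, -1, -1, 1], [1, 0, -1, 2], [0, 1, -2,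
    1], [1, -1, 0, 1], [0, 0, -1, 0], [0, 1, -1, 1], [1, -2, 1, 0], [0, -1, 0, -1], [1, -1, 1,
    1], [-1, 1, -1, -1], [0, 1, 0, 1], [-1, 2, -1, 0], [0, -1, 1, -1], [0, 0, 1, 0], [-1, 1, 0,
    -1], [0, -1, 2, -1], [-1, 0, 1, -2], [-1, 1, 1, -1], [1, 0, -1, 1], [1, -1, 0, 0], [1, 0, 0,
    1], [0, 1, -1, 0], [1, -1, 1, 0], [0, 0, 0, -1], [0, 1, 0, 0], [0, 0, 1, -1], [2, -1, 0, 1],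
    [1, 0, -1, 0], [1, 1, -1, 1], [1, 0, 0, 0], [1, -1, 1, -1], [1, 0, 1, 0], [0, 1, 0, -1]]

theorem certF4_chk : certF4.chk (tabF4.coord chevF4.rank) = true := by decide +kernel

/-- Certificate for E6. -/
def certE6 : TorusCert chevE6 where
  word := [⟨0, by decide⟩, ⟨1, by decide⟩, ⟨2, by decide⟩, ⟨3, by decide⟩, ⟨4, by decide⟩, ⟨5, by decide⟩]
  mats := [[[0, 1, 0, 0, 0, -1], [0, 0, 1, 0, 0, -1], [1, 1, 0, 0, 0, -1], [0, 1, 1, 0, 0, -1], [0, 0,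
    0, 1, 0, -1], [0, 0, 0, 0, 1, -1]], [[1, 0, 0, 0, 0, 0], [0, 0, 1, 0, 0, -1], [1, 1, 0, 0, 0,
    -1], [0, 1, 1, 0, 0, -1], [0, 0, 0, 1, 0, -1], [0, 0, 0, 0, 1, -1]], [[1, 0, 0, 0, 0, 0], [0,
    1, 0, 0, 0, 0], [1, 1, 0, 0, 0, -1], [0, 1, 1, 0, 0, -1], [0, 0, 0, 1, 0, -1], [0, 0, 0, 0,
    1, -1]], [[1, 0, 0, 0, 0, 0], [0, 1, 0, 0, 0, 0], [0, 0, 1, 0, 0, 0], [0, 1, 1, 0, 0, -1],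
    [0, 0, 0, 1, 0, -1], [0, 0, 0, 0, 1, -1]], [[1, 0, 0, 0, 0, 0], [0, 1, 0, 0, 0, 0], [0, 0, 1,
    0, 0, 0], [0, 0, 0, 1, 0, 0], [0, 0, 0, 1, 0, -1], [0, 0, 0, 0, 1, -1]], [[1, 0, 0, 0, 0, 0],
    [0, 1, 0, 0, 0, 0], [0, 0, 1, 0, 0, 0], [0, 0, 0, 1, 0, 0], [0, 0, 0, 0, 1, 0], [0, 0, 0, 0,
    1, -1]], [[1, 0, 0, 0, 0, 0], [0, 1, 0, 0, 0, 0], [0, 0, 1, 0, 0, 0], [0, 0, 0, 1, 0, 0], [0,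
    0, 0, 0, 1, 0], [0, 0, 0, 0, 0, 1]]]
  u := [1, 0, 0, 0, 0, 0]
  v := [[1], [0, 0, 1, 0, 0, -1], [1, 1], [1, 1, 1], [0, 0, 1, 1, 0, -1], [1, 0, 0, 0, 1]]
  N := [1, 1, 0, -1, 0, 1, 1]
  e := [[-1], [], [-1], [-1], [], [-1]]
  b := [[-1, -1, 0, 0, -1, -1], [0, -1, -1, -1], [0, 0, -1, -1, 0, 1], [0, 0, 0, 1, 1], [0, 0, 1,
    1], [0, 1, 1]]
  B := [[[], [], [], [], [], []], [[0, 0, 0, 0, -1], [-1, 0, -1], [0, -1, 0, -1, 1], [0, 0, 0, 1],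
    [0, 0, 1], [0, 1]], [[1], [], [-1], [], [], []], [[1, 1], [], [0, -1], [-1], [], []], [[0, 0,
    1, 0, -1], [0, 0, -1], [0, 0, -1, -1, 1], [0, -1, 0, 1], [-1, 0, 1], [0, 1]], [[1, 0, 0, 1],
    [0, 1], [0, 0, 1, -1], [0, 0, -1], [0, -1], [-1]]]
  d := 3
  al := [[2], [1, 0, 1, 2, 2], [0, 1], [], [], [], []]
  be := [[], [-1], [], [], [], [], []]
  roots := [[0, 0, -1, 0, 0, 1], [-1, -1, 0, 0, 0, -1], [0, 0, 0, -1, 0, 1], [-2, -1, 1, 1, -1, -1], [0,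
    -1, 0, 0, 1, 0], [0, 1, -1, -1, 0, 1], [-2, 0, 0, 1, -1, -1], [0, 0, -1, 0, 1, 0], [-1, 1, 0,
    0, -1, 1], [1, 1, -1, -1, 1, 2], [-1, 0, 0, 1, 0, 0], [-2, 0, 1, 0, -1, -1], [0, 0, 0, -1, 1,
    0], [-2, -1, 1, 1, 0, -2], [-1, 0, 1, 0, 0, 0], [-1, 1, 0, 0, 0, 0], [1, 0, -1, -1, 0, 1],
    [-1, -1, 0, 1, -1, -1], [1, -1, -1, 0, 1, 0], [0, 0, 0, 0, -1, 1], [2, 0, -1, -1, 1, 2], [0,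
    -1, 0, 1, 0, 0], [0, 1, -1, 0, -1, 1], [2, 1, -2, -1, 1, 2], [0, 0, -1, 1, 0, 0], [1, 1, -1,
    0, 0, 2], [-1, -1, 1, 0, -1, -1], [1, -1, 0, -1, 1, 0], [-1, -2, 1, 1, 0, -2], [0, -1, 1, 0,
    0, 0], [-1, 0, 0, 0, -1, -1], [1, 0, -1, -1, 1, 0], [-1, -1, 0, 1, 0, -2], [0, 1, 0, -1, -1,
    1], [2, 1, -1, -2, 1, 2], [-2, 0, 1, 1, -2, -1], [2, 0, -1, -1, 2, 1], [-2, -1, 1, 2, -1,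
    -2], [0, -1, 0, 1, 1, -1], [1, 1, 0, -1, 0, 2], [-1, 0, 1, 1, -1, 0], [1, 0, 0, 0, 1, 1], [0,
    1, -1, 0, 0, 0], [1, 2, -1, -1, 0, 2], [-1, 1, 0, 1, -1, 0], [1, 1, -1, 0, 1, 1], [-1, -1, 1,
    0, 0, -2], [0, 0, 1, -1, 0, 0], [-2, -1, 2, 1, -1, -2], [0, -1, 1, 0, 1, -1], [0, 1, 0, -1,
    0, 0], [-2, 0, 1, 1, -1, -2], [0, 0, 0, 0, 1, -1], [-1, 1, 1, 0, -1, 0], [1, 1, 0, -1, 1, 1],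
    [-1, 0, 1, 1, 0, -1], [1, -1, 0, 0, 0, 0], [1, 0, -1, 0, 0, 0], [2, 1, -1, -1, 0, 2], [0, 0,
    0, 1, -1, 0], [2, 0, -1, 0, 1, 1], [1, 0, 0, -1, 0, 0], [-1, -1, 1, 1, -1, -2], [1, -1, 0, 0,
    1, -1], [0, 0, 1, 0, -1, 0], [2, 0, 0, -1, 1, 1], [0, -1, 1, 1, 0, -1], [0, 1, 0, 0, -1, 0],
    [2, 1, -1, -1, 1, 1], [0, 0, 0, 1, 0, -1], [1, 1, 0, 0, 0, 1], [0, 0, 1, 0, 0, -1]]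

theorem certE6_chk : certE6.chk (tabE6.coord chevE6.rank) = true := by decide +kernel

/-- Certificate for E7. -/
def certE7 : TorusCert chevE7 where
  word := [⟨3, by decide⟩, ⟨6, by decide⟩, ⟨5, by decide⟩, ⟨6, by decide⟩, ⟨0, by decide⟩, ⟨4, by decide⟩, ⟨1, by decide⟩, ⟨5, by decide⟩, ⟨2, by decide⟩, ⟨6, by decide⟩, ⟨3, by decide⟩, ⟨1, by decide⟩, ⟨4, by decide⟩]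
  mats := [[[0, -1, 0, 1, -1, 1, 0], [0, 0, 1, 0, -1, 1, 0], [1, -1, 0, 1, -1, 1, 0], [1, -1, 1, 1, -2,
    2, -1], [0, -1, 1, 1, -1, 1, -1], [0, -1, 1, 1, -1, 0, 0], [0, -1, 1, 0, 0, 0, 0]], [[0, -1,
    0, 1, -1, 1, 0], [0, 0, 1, 0, -1, 1, 0], [1, -1, 0, 1, -1, 1, 0], [0, -1, 1, 1, -1, 1, 0],
    [0, -1, 1, 1, -1, 1, -1], [0, -1, 1, 1, -1, 0, 0], [0, -1, 1, 0, 0, 0, 0]], [[0, -1, 0, 1,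
    -1, 1, 0], [0, 0, 1, 0, -1, 1, 0], [1, -1, 0, 1, -1, 1, 0], [0, -1, 1, 1, -1, 1, 0], [0, -1,
    1, 1, -1, 1, -1], [0, -1, 1, 1, -1, 0, 0], [0, 0, 0, 1, -1, 0, 0]], [[0, -1, 0, 1, -1, 1, 0],
    [0, 0, 1, 0, -1, 1, 0], [1, -1, 0, 1, -1, 1, 0], [0, -1, 1, 1, -1, 1, 0], [0, -1, 1, 1, -1,
    1, -1], [0, 0, 0, 1, -1, 1, -1], [0, 0, 0, 1, -1, 0, 0]], [[0, -1, 0, 1, -1, 1, 0], [0, 0, 1,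
    0, -1, 1, 0], [1, -1, 0, 1, -1, 1, 0], [0, -1, 1, 1, -1, 1, 0], [0, -1, 1, 1, -1, 1, -1], [0,
    0, 0, 1, -1, 1, -1], [0, 0, 0, 0, 0, 1, -1]], [[1, 0, 0, 0, 0, 0, 0], [0, 0, 1, 0, -1, 1, 0],
    [1, -1, 0, 1, -1, 1, 0], [0, -1, 1, 1, -1, 1, 0], [0, -1, 1, 1, -1, 1, -1], [0, 0, 0, 1, -1,
    1, -1], [0, 0, 0, 0, 0, 1, -1]], [[1, 0, 0, 0, 0, 0, 0], [0, 0, 1, 0, -1, 1, 0], [1, -1, 0,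
    1, -1, 1, 0], [0, -1, 1, 1, -1, 1, 0], [0, 0, 0, 1, -1, 1, 0], [0, 0, 0, 1, -1, 1, -1], [0,
    0, 0, 0, 0, 1, -1]], [[1, 0, 0, 0, 0, 0, 0], [0, -1, 0, 1, 0, 0, 0], [1, -1, 0, 1, -1, 1, 0],
    [0, -1, 1, 1, -1, 1, 0], [0, 0, 0, 1, -1, 1, 0], [0, 0, 0, 1, -1, 1, -1], [0, 0, 0, 0, 0, 1,
    -1]], [[1, 0, 0, 0, 0, 0, 0], [0, -1, 0, 1, 0, 0, 0], [1, -1, 0, 1, -1, 1, 0], [0, -1, 1, 1,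
    -1, 1, 0], [0, 0, 0, 1, -1, 1, 0], [0, 0, 0, 0, 0, 1, 0], [0, 0, 0, 0, 0, 1, -1]], [[1, 0, 0,
    0, 0, 0, 0], [0, -1, 0, 1, 0, 0, 0], [0, 0, 1, 0, 0, 0, 0], [0, -1, 1, 1, -1, 1, 0], [0, 0,
    0, 1, -1, 1, 0], [0, 0, 0, 0, 0, 1, 0], [0, 0, 0, 0, 0, 1, -1]], [[1, 0, 0, 0, 0, 0, 0], [0,
    -1, 0, 1, 0, 0, 0], [0, 0, 1, 0, 0, 0, 0], [0, -1, 1, 1, -1, 1, 0], [0, 0, 0, 1, -1, 1, 0],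
    [0, 0, 0, 0, 0, 1, 0], [0, 0, 0, 0, 0, 0, 1]], [[1, 0, 0, 0, 0, 0, 0], [0, -1, 0, 1, 0, 0,
    0], [0, 0, 1, 0, 0, 0, 0], [0, 0, 0, 1, 0, 0, 0], [0, 0, 0, 1, -1, 1, 0], [0, 0, 0, 0, 0, 1,
    0], [0, 0, 0, 0, 0, 0, 1]], [[1, 0, 0, 0, 0, 0, 0], [0, 1, 0, 0, 0, 0, 0], [0, 0, 1, 0, 0, 0,
    0], [0, 0, 0, 1, 0, 0, 0], [0, 0, 0, 1, -1, 1, 0], [0, 0, 0, 0, 0, 1, 0], [0, 0, 0, 0, 0, 0,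
    1]], [[1, 0, 0, 0, 0, 0, 0], [0, 1, 0, 0, 0, 0, 0], [0, 0, 1, 0, 0, 0, 0], [0, 0, 0, 1, 0, 0,
    0], [0, 0, 0, 0, 1, 0, 0], [0, 0, 0, 0, 0, 1, 0], [0, 0, 0, 0, 0, 0, 1]]]
  u := [0, 0, 0, 0, 0, 0, 1]
  v := [[1, 0, -1, 1, 0, -1], [1, 0, 0, 1, 0, -1], [1, 1, -1, 0, 1, -1, -1], [2, 0, -1, 1, 1, -2,
    -1], [2, 0, -1, 1, 1, -1, -1], [1, 0, 0, 0, 0, 0, -1], [1]]
  N := [1, 0, -1, 1, 1, -1, 0, 1]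
  e := [[-1], [-1], [-1], [-2], [-2], [-1], [-1]]
  b := [[0, 0, -1, 0, 0, -1], [0, 1, 1, 0, 0, 1, 1], [0, -1, 1, 1, -1, 0, 1], [0, 0, -1, -1, 0, 0,
    -1], [0, 0, 0, 1, 1], [0, 0, 0, -1], [-1, 0, 1, 0, -1]]
  B := [[[-1, 0, 0, -1], [0, 0, 0, 1, 1], [0, 1, -1, 0, 1], [0, -1, 0, 0, -1], [0, 1, 1], [0, -1],
    [1, 0, -1]], [[0, 0, 0, -1], [-1, -1, 0, 1, 1], [0, 0, -1, 0, 1], [0, 0, 0, 0, -1], [0, 1,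
    1], [0, -1], [1, 0, -1]], [[0, -1, 0, -1, -1], [0, 0, 0, 1, 2, 1], [-1, 1, 0, -1, 1, 1], [0,
    -1, -1, 0, -1, -1], [0, 1, 2, 1], [0, -1, -1], [1, 1, -1, -1]], [[0, -1, 0, -2, -1], [0, -1,
    0, 2, 3, 1], [0, 1, -1, -1, 2, 1], [-1, -1, -1, 0, -2, -1], [0, 2, 3, 1], [0, -2, -1], [2, 1,
    -2, -1]], [[0, 0, 0, -1, -1], [0, -1, -1, 1, 2, 1], [0, 1, -1, -1, 1, 1], [0, -1, 0, 0, -1,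
    -1], [-1, 1, 2, 1], [0, -1, -1], [2, 1, -1, -1]], [[0, 0, -1, 0, -1], [0, 0, 0, 1, 1, 1], [0,
    0, 0, 0, 0, 1], [0, -1, 0, -1, 0, -1], [0, 1, 1, 1], [-1, 0, -1], [1, 0, 0, -1]], [[], [],
    [], [], [], [], []]]
  d := 2
  al := [[2, -1, -1], [-1, 0, 2, 1], [], [], [], [], [], [1]]
  be := [[-1, 1], [], [], [0, 0, 1], [], [], [], []]
  roots := [[-1, 0, 1, -1, 0, 1, 0], [0, -1, 0, 1, -1, 0, 1], [-1, 1, 0, -1, 0, 1, 0], [-1, 0, 0, -1, 0,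
    0, 0], [0, 0, -1, 0, 1, 0, 0], [-1, 0, 0, -1, 0, 1, -1], [0, 0, 0, -1, 0, 1, 0], [-1, 0, 1,
    0, -1, 0, 1], [0, 0, 0, 1, 0, 0, 1], [-1, 0, 1, 0, -1, 1, 0], [0, 0, 1, 0, -1, 1, 1], [0, -1,
    0, 1, 0, -1, 1], [-1, -1, 1, 0, -1, 0, 0], [0, -1, 1, 0, -1, 0, 1], [0, -1, 0, 1, 0, 0, 0],
    [1, -1, 0, 1, 0, 0, 1], [0, -1, 1, 0, -1, 1, 0], [-1, 1, 0, -1, 1, 0, 0], [-2, 1, 1, -2, 0,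
    1, -1], [-1, 1, 1, -2, 0, 1, 0], [-1, 1, 0, -1, 1, 1, -1], [0, 1, 0, -1, 1, 1, 0], [-1, 1, 1,
    -2, 0, 2, -1], [-1, 0, 0, -1, 1, 0, -1], [0, 0, 0, -1, 1, 0, 0], [-1, 0, 1, -2, 0, 1, -1],
    [0, 0, 0, -1, 1, 1, -1], [-1, 0, 1, 0, 0, 0, 0], [0, 0, 1, 0, 0, 0, 1], [-1, 0, 2, -1, -1, 1,
    0], [0, 0, 1, 0, 0, 1, 0], [0, -1, 1, 0, 0, 0, 0], [-1, 1, 1, -2, 1, 1, -1], [0, 0, -1, 1, 0,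
    -1, 1], [-1, 0, 0, 0, -1, 0, 0], [0, 0, 0, 0, -1, 0, 1], [0, 0, -1, 1, 0, 0, 0], [1, 0, -1,
    1, 0, 0, 1], [0, 0, 0, 0, -1, 1, 0], [0, -1, -1, 1, 0, -1, 0], [1, -1, -1, 1, 0, -1, 1], [0,
    -1, 0, 0, -1, 0, 0], [1, -1, -1, 1, 0, 0, 0], [-1, 1, -1, -1, 1, 0, -1], [0, 1, -1, -1, 1, 0,
    0], [-1, 1, 0, -2, 0, 1, -1], [0, 1, -1, -1, 1, 1, -1], [0, 0, -1, -1, 1, 0, -1], [0, -1, 0,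
    2, -1, -1, 1], [1, -1, 0, 2, -1, -1, 2], [0, -1, 1, 1, -2, 0, 1], [1, -1, 0, 2, -1, 0, 1],
    [1, -2, 0, 2, -1, -1, 1], [-1, 1, 0, 0, 0, 0, 0], [0, 1, 0, 0, 0, 0, 1], [-1, 1, 1, -1, -1,
    1, 0], [0, 1, 0, 0, 0, 1, 0], [-1, 0, 0, 0, 0, -1, 0], [0, 0, 0, 0, 0, -1, 1], [-1, 0, 1, -1,
    -1, 0, 0], [0, 0, -1, 1, 1, -1, 0], [1, 0, -1, 1, 1, -1, 1], [-1, 0, 0, 0, 0, 0, -1], [1, 0,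
    0, 0, 0, 0, 1], [-1, 0, 1, -1, -1, 1, -1], [0, 0, 1, -1, -1, 1, 0], [1, 0, -1, 1, 1, 0, 0],
    [0, 0, 0, 0, 0, 1, -1], [1, 0, 0, 0, 0, 1, 0], [0, -1, 0, 0, 0, -1, 0], [1, -1, -1, 1, 1, -1,
    0], [0, -1, 0, 0, 0, 0, -1], [1, -1, 0, 0, 0, 0, 0], [-1, 2, 0, -2, 1, 1, -1], [-1, 1, 0, -2,
    1, 0, -1], [0, 1, -1, -1, 2, 0, -1], [-1, 1, 0, -2, 1, 1, -2], [0, 1, 0, -2, 1, 1, -1], [0,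
    0, 1, 1, -1, 0, 1], [0, -1, 1, 1, -1, -1, 1], [1, -1, 0, 2, 0, -1, 1], [0, -1, 1, 1, -1, 0,
    0], [1, -1, 1, 1, -1, 0, 1], [-1, 1, 1, -1, 0, 0, 0], [0, 1, 0, 0, 1, 0, 0], [-1, 1, 1, -1,
    0, 1, -1], [0, 1, 1, -1, 0, 1, 0], [0, 0, 0, 0, 1, -1, 0], [-1, 0, 1, -1, 0, 0, -1], [0, 0,
    1, -1, 0, 0, 0], [0, 0, 0, 0, 1, 0, -1], [1, 0, 0, 0, 1, 0, 0], [0, 0, 1, -1, 0, 1, -1], [1,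
    -1, -1, 2, -1, -1, 1], [0, 1, -1, 0, 0, 0, 0], [0, 0, -1, 0, 0, -1, 0], [1, 0, -2, 1, 1, -1,
    0], [0, 0, -1, 0, 0, 0, -1], [1, 0, -1, 0, 0, 0, 0], [0, 0, 0, 1, -1, -1, 1], [1, 0, -1, 2,
    0, -1, 1], [0, 0, 0, 1, -1, 0, 0], [1, 0, 0, 1, -1, 0, 1], [1, -1, -1, 2, 0, -2, 1], [0, -1,
    0, 1, -1, -1, 0], [1, -1, 0, 1, -1, -1, 1], [1, -1, -1, 2, 0, -1, 0], [2, -1, -1, 2, 0, -1,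
    1], [1, -1, 0, 1, -1, 0, 0], [0, 1, -1, 0, 1, -1, 0], [-1, 1, 0, -1, 0, 0, -1], [0, 1, 0, -1,
    0, 0, 0], [0, 1, -1, 0, 1, 0, -1], [1, 1, -1, 0, 1, 0, 0], [0, 1, 0, -1, 0, 1, -1], [0, 0,
    -1, 0, 1, -1, -1], [1, 0, -1, 0, 1, -1, 0], [0, 0, 0, -1, 0, 0, -1], [1, 0, -1, 0, 1, 0, -1],
    [0, 0, 0, 1, 0, -1, 0], [1, 0, 0, 1, 0, -1, 1], [0, 0, 1, 0, -1, 0, 0], [1, 0, 0, 1, 0, 0,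
    0], [1, -1, 0, 1, 0, -1, 0], [0, 1, 0, -1, 1, 0, -1], [1, 0, -1, 1, 0, -1, 0]]

theorem certE7_chk : certE7.chk (tabE7.coord chevE7.rank) = true := by decide +kernel

/-- Certificate for E8. -/
def certE8 : TorusCert chevE8 where
  word := [⟨0, by decide⟩, ⟨1, by decide⟩, ⟨2, by decide⟩, ⟨3, by decide⟩, ⟨4, by decide⟩, ⟨5, by decide⟩, ⟨6, by decide⟩, ⟨7, by decide⟩]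
  mats := [[[0, 1, 0, 0, 0, 0, 0, -1], [0, 0, 1, 0, 0, 0, 0, -1], [1, 1, 0, 0, 0, 0, 0, -1], [0, 1, 1,
    0, 0, 0, 0, -1], [0, 0, 0, 1, 0, 0, 0, -1], [0, 0, 0, 0, 1, 0, 0, -1], [0, 0, 0, 0, 0, 1, 0,
    -1], [0, 0, 0, 0, 0, 0, 1, -1]], [[1, 0, 0, 0, 0, 0, 0, 0], [0, 0, 1, 0, 0, 0, 0, -1], [1, 1,
    0, 0, 0, 0, 0, -1], [0, 1, 1, 0, 0, 0, 0, -1], [0, 0, 0, 1, 0, 0, 0, -1], [0, 0, 0, 0, 1, 0,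
    0, -1], [0, 0, 0, 0, 0, 1, 0, -1], [0, 0, 0, 0, 0, 0, 1, -1]], [[1, 0, 0, 0, 0, 0, 0, 0], [0,
    1, 0, 0, 0, 0, 0, 0], [1, 1, 0, 0, 0, 0, 0, -1], [0, 1, 1, 0, 0, 0, 0, -1], [0, 0, 0, 1, 0,
    0, 0, -1], [0, 0, 0, 0, 1, 0, 0, -1], [0, 0, 0, 0, 0, 1, 0, -1], [0, 0, 0, 0, 0, 0, 1, -1]],
    [[1, 0, 0, 0, 0, 0, 0, 0], [0, 1, 0, 0, 0, 0, 0, 0], [0, 0, 1, 0, 0, 0, 0, 0], [0, 1, 1, 0,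
    0, 0, 0, -1], [0, 0, 0, 1, 0, 0, 0, -1], [0, 0, 0, 0, 1, 0, 0, -1], [0, 0, 0, 0, 0, 1, 0,
    -1], [0, 0, 0, 0, 0, 0, 1, -1]], [[1, 0, 0, 0, 0, 0, 0, 0], [0, 1, 0, 0, 0, 0, 0, 0], [0, 0,
    1, 0, 0, 0, 0, 0], [0, 0, 0, 1, 0, 0, 0, 0], [0, 0, 0, 1, 0, 0, 0, -1], [0, 0, 0, 0, 1, 0, 0,
    -1], [0, 0, 0, 0, 0, 1, 0, -1], [0, 0, 0, 0, 0, 0, 1, -1]], [[1, 0, 0, 0, 0, 0, 0, 0], [0, 1,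
    0, 0, 0, 0, 0, 0], [0, 0, 1, 0, 0, 0, 0, 0], [0, 0, 0, 1, 0, 0, 0, 0], [0, 0, 0, 0, 1, 0, 0,
    0], [0, 0, 0, 0, 1, 0, 0, -1], [0, 0, 0, 0, 0, 1, 0, -1], [0, 0, 0, 0, 0, 0, 1, -1]], [[1, 0,
    0, 0, 0, 0, 0, 0], [0, 1, 0, 0, 0, 0, 0, 0], [0, 0, 1, 0, 0, 0, 0, 0], [0, 0, 0, 1, 0, 0, 0,
    0], [0, 0, 0, 0, 1, 0, 0, 0], [0, 0, 0, 0, 0, 1, 0, 0], [0, 0, 0, 0, 0, 1, 0, -1], [0, 0, 0,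
    0, 0, 0, 1, -1]], [[1, 0, 0, 0, 0, 0, 0, 0], [0, 1, 0, 0, 0, 0, 0, 0], [0, 0, 1, 0, 0, 0, 0,
    0], [0, 0, 0, 1, 0, 0, 0, 0], [0, 0, 0, 0, 1, 0, 0, 0], [0, 0, 0, 0, 0, 1, 0, 0], [0, 0, 0,
    0, 0, 0, 1, 0], [0, 0, 0, 0, 0, 0, 1, -1]], [[1, 0, 0, 0, 0, 0, 0, 0], [0, 1, 0, 0, 0, 0, 0,
    0], [0, 0, 1, 0, 0, 0, 0, 0], [0, 0, 0, 1, 0, 0, 0, 0], [0, 0, 0, 0, 1, 0, 0, 0], [0, 0, 0,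
    0, 0, 1, 0, 0], [0, 0, 0, 0, 0, 0, 1, 0], [0, 0, 0, 0, 0, 0, 0, 1]]]
  u := [0, 0, 0, 0, 0, 0, 0, 1]
  v := [[0, 0, 1, 1, 0, 0, -1, -1], [1, 1, 1, 0, 0, -1, -1], [1, 1, 1, 1, 0, -1, -1, -1], [1, 2, 2,
    1, 0, -1, -2, -1], [1, 1, 2, 1, 0, -1, -1, -1], [1, 1, 1, 1, 0, -1, -1], [0, 0, 1, 1, 1, 0,
    -1, -1], [1]]
  N := [1, 1, 0, -1, -1, -1, 0, 1, 1]
  e := [[], [-1], [-1], [-1], [-1], [-1], [], [-1]]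
  b := [[0, 0, 0, 0, 0, 0, -1, -1], [0, 0, 0, 0, 0, -1, -1, -1], [0, 0, 0, 0, 0, -1, -1], [0, 0, 0,
    0, -1, 0, 1, 1], [0, 0, 0, -1, 0, 1, 1], [0, 0, -1, 0, 1, 1], [0, -1, 0, 1, 1], [-1, 0, 1,
    1]]
  B := [[[-1, 0, 0, -1, 0, -1, -1], [0, -1, 0, -1, -1, -1, -1], [0, 0, -1, 0, -1, -1], [0, 0, 0, 0,
    0, 1, 1], [0, 0, 0, 0, 1, 1], [0, 0, 0, 1, 1], [0, 0, 1, 1], [0, 1, 1]], [[0, 0, -1, 0, -1,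
    -1], [-1, 0, -1, -1, -1, -1], [0, -1, 0, -1, -1], [0, 0, 0, 0, 1, 1], [0, 0, 0, 1, 1], [0, 0,
    1, 1], [0, 1, 1], [1, 1]], [[0, -1, 0, -1, -1, -1, -1], [0, -1, -1, -1, -2, -1, -1], [-1, 0,
    -1, -1, -1, -1], [0, 0, 0, 0, 1, 1, 1], [0, 0, 0, 1, 1, 1], [0, 0, 1, 1, 1], [0, 1, 1, 1],
    [1, 1, 1]], [[0, 0, -1, -1, -1, -2, -1], [0, -1, -1, -2, -2, -2, -1], [0, -1, -1, -1, -2,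
    -1], [-1, 0, 0, 0, 1, 2, 1], [0, 0, 0, 1, 2, 1], [0, 0, 1, 2, 1], [0, 1, 2, 1], [1, 2, 1]],
    [[0, 0, 0, -1, -1, -1, -1], [0, 0, -1, -1, -2, -1, -1], [0, 0, -1, -1, -1, -1], [0, -1, 0, 0,
    1, 1, 1], [-1, 0, 0, 1, 1, 1], [0, 0, 1, 1, 1], [0, 1, 1, 1], [1, 1, 1]], [[0, 0, 0, 0, -1,
    -1], [0, 0, 0, -1, -1, -1], [0, 0, 0, -1, -1], [0, 0, -1, 0, 1, 1], [0, -1, 0, 1, 1], [-1, 0,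
    1, 1], [0, 1, 1], [1, 1]], [[0, 0, 0, 0, 0, -1, -1], [0, 0, 0, 0, -1, -1, -1], [0, 0, 0, 0,
    -1, -1], [0, 0, 0, -1, 0, 1, 1], [0, 0, -1, 0, 1, 1], [0, -1, 0, 1, 1], [-1, 0, 1, 1], [0, 1,
    1]], [[], [], [], [], [], [], [], []]]
  d := 1
  al := [[0, -3, 2, 1, -2, 1, 1], [-1, -2, 0, 0, 0, 0, 1], [], [], [0, 0, 0, 0, 0, -1, -1], [0, 0, 0,
    0, 0, 0, 0, -1], [0, 0, 0, 0, 0, 0, 0, -1], [], []]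
  be := [[-1, 2, -2, 1], [], [], [], [0, 0, 0, 0, 0, 1], [], [], [], []]
  roots := [[-1, 0, 0, 0, 0, 0, 0, 0], [1, 0, -1, -1, -1, 0, 1, 1], [-1, -1, 0, 0, 1, 1, 0, -1], [0, 0,
    -1, 0, 0, 0, 0, 1], [0, -1, 0, 0, 0, 0, 1, 0], [-1, 0, 0, 0, 0, 1, 0, 0], [0, 0, -1, 0, 0, 0,
    1, 0], [0, 0, 0, -1, 0, 0, 0, 1], [1, 0, -1, -1, 0, -1, 1, 1], [0, 1, -1, -1, 0, 0, 0, 1],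
    [0, 0, 0, -1, 0, 0, 1, 0], [1, 1, -1, -1, -1, -1, 1, 2], [-1, 0, 0, 0, 1, 0, 0, 0], [1, 0,
    -1, -1, 0, 0, 1, 1], [-1, -1, 0, 1, 0, 1, 0, -1], [0, -1, 0, 0, 0, 0, 0, 0], [-1, 0, 0, 0, 0,
    1, -1, 0], [-1, -1, 1, 0, 0, 1, 0, -1], [0, 0, 0, 0, -1, 0, 0, 1], [-2, -1, 1, 1, 1, 1, -1,
    -1], [0, -1, 0, 0, 0, 1, 0, 0], [0, 0, -1, 0, 0, 0, 0, 0], [0, -1, 0, 0, 0, 0, 1, -1], [1, 0,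
    -1, 0, -1, -1, 1, 1], [-1, -1, 0, 1, 1, 0, 0, -1], [1, -1, -1, 0, 0, 0, 1, 0], [-1, 0, 0, 0,
    0, 1, 0, -1], [0, 1, -1, 0, -1, 0, 0, 1], [-2, 0, 0, 1, 1, 1, -1, -1], [0, 0, -1, 0, 0, 1, 0,
    0], [0, 0, 0, 0, -1, 0, 1, 0], [-2, -1, 1, 1, 1, 1, 0, -2], [0, -1, 0, 0, 0, 1, 1, -1], [-1,
    0, 0, 1, 0, 0, 0, 0], [1, 0, -1, 0, -1, 0, 1, 1], [-1, -1, 0, 1, 1, 1, 0, -1], [0, 0, 0, -1,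
    0, 0, 0, 0], [1, 1, -1, -1, -1, -1, 0, 2], [-1, 0, 0, 0, 1, 0, -1, 0], [1, 0, -1, -1, 0, 0,
    0, 1], [1, 0, 0, -1, -1, -1, 1, 1], [-1, -1, 1, 0, 1, 0, 0, -1], [1, -1, 0, -1, 0, 0, 1, 0],
    [0, 0, 0, 0, 0, -1, 0, 1], [2, 0, -1, -1, -1, -1, 1, 2], [0, -1, 0, 0, 1, 0, 0, 0], [0, 1, 0,
    -1, -1, 0, 0, 1], [-2, 0, 1, 0, 1, 1, -1, -1], [0, 0, 0, -1, 0, 1, 0, 0], [-1, 1, 0, 0, 0, 0,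
    -1, 1], [1, 1, -1, -1, -1, 0, 0, 2], [-1, 0, 0, 0, 1, 1, -1, 0], [-1, 0, 1, 0, 0, 0, 0, 0],
    [1, 0, 0, -1, -1, 0, 1, 1], [-1, -1, 1, 0, 1, 1, 0, -1], [0, 0, 0, 0, 0, 0, 0, 1], [1, 1, -1,
    -1, -1, -1, 1, 1], [-1, 0, 0, 0, 1, 0, 0, -1], [1, 0, -1, -1, 0, 0, 1, 0], [0, 1, -1, 0, 0,
    -1, 0, 1], [2, 1, -2, -1, -1, -1, 1, 2], [0, 0, -1, 0, 1, 0, 0, 0], [0, 0, 0, 0, 0, -1, 1,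
    0], [2, 0, -1, -1, -1, -1, 2, 1], [0, -1, 0, 0, 1, 0, 1, -1], [1, 0, -1, 0, 0, -1, 1, 1],
    [-1, 1, 0, 0, 0, 0, 0, 0], [1, 1, -1, -1, -1, 0, 1, 1], [-1, 0, 0, 0, 1, 1, 0, -1], [0, 1,
    -1, 0, 0, 0, 0, 1], [0, 0, 0, 0, 0, 0, 1, 0], [0, 1, 0, -1, 0, -1, 0, 1], [2, 1, -1, -2, -1,
    -1, 1, 2], [0, 0, 0, -1, 1, 0, 0, 0], [1, 1, -1, -1, 0, -1, 0, 2], [1, 0, 0, -1, 0, -1, 1,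
    1], [0, 1, 0, -1, 0, 0, 0, 1], [1, 1, -1, -1, 0, -1, 1, 1], [0, 0, 0, 0, -1, 0, 0, 0], [-2,
    -1, 1, 1, 1, 1, -1, -2], [0, -1, 0, 0, 0, 1, 0, -1], [-1, 0, 0, 1, 0, 0, -1, 0], [1, 0, -1,
    0, -1, 0, 0, 1], [-1, -1, 0, 1, 1, 1, -1, -1], [-1, -1, 1, 1, 0, 0, 0, -1], [1, -1, 0, 0, -1,
    0, 1, 0], [-1, -2, 1, 1, 1, 1, 0, -2], [0, -1, 0, 1, 0, 0, 0, 0], [-2, 0, 1, 1, 0, 1, -1,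
    -1], [0, 0, 0, 0, -1, 1, 0, 0], [-2, -1, 1, 1, 1, 2, -1, -2], [-1, 0, 0, 1, 0, 1, -1, 0],
    [-1, -1, 1, 1, 0, 1, 0, -1], [-1, 0, 0, 1, 0, 0, 0, -1], [1, 0, -1, 0, -1, 0, 1, 0], [-1, -1,
    0, 1, 1, 1, 0, -2], [0, 0, -1, 1, 0, 0, 0, 0], [0, -1, 0, 1, 0, 0, 1, -1], [-1, 0, 0, 1, 0,
    1, 0, -1], [-1, 0, 1, 0, 0, 0, -1, 0], [1, 0, 0, -1, -1, 0, 0, 1], [-1, -1, 1, 0, 1, 1, -1,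
    -1], [0, 0, 0, 0, 0, 0, -1, 1], [0, -1, 1, 0, 0, 0, 0, 0], [-1, 0, 1, 0, 0, 1, -1, 0], [0, 0,
    0, 0, 0, -1, 0, 0], [2, 0, -1, -1, -1, -1, 1, 1], [0, -1, 0, 0, 1, 0, 0, -1], [1, 0, -1, 0,
    0, -1, 0, 1], [1, -1, 0, 0, 0, -1, 1, 0], [-1, 1, 0, 0, 0, 0, -1, 0], [1, 1, -1, -1, -1, 0,
    0, 1], [-1, 0, 0, 0, 1, 1, -1, -1], [0, 1, -1, 0, 0, 0, -1, 1], [-1, 0, 1, 0, 0, 0, 0, -1],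
    [1, 0, 0, -1, -1, 0, 1, 0], [-1, -1, 1, 0, 1, 1, 0, -2], [0, 1, 0, 0, -1, -1, 0, 1], [2, 1,
    -1, -1, -2, -1, 1, 2], [-2, 0, 1, 1, 1, 0, -1, -1], [2, 0, -1, -1, -1, 0, 1, 1], [-2, -1, 1,
    1, 2, 1, -1, -2], [0, -1, 0, 0, 1, 1, 0, -1], [1, 1, -1, 0, -1, -1, 0, 2], [-1, 0, 0, 1, 1,
    0, -1, 0], [1, 0, -1, 0, 0, 0, 0, 1], [0, -1, 1, 0, 0, 0, 1, -1], [1, 0, 0, 0, -1, -1, 1, 1],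
    [-1, -1, 1, 1, 1, 0, 0, -1], [1, -1, 0, 0, 0, 0, 1, 0], [-1, 1, 0, 0, 0, 1, -1, 0], [-1, 0,
    1, 0, 0, 1, 0, -1], [0, 1, 0, 0, -1, 0, 0, 1], [-2, 0, 1, 1, 1, 1, -1, -1], [0, 0, 0, 0, 0,
    1, 0, 0], [1, 0, -1, 0, 0, -1, 1, 0], [0, 1, -1, 0, 0, 0, 0, 0], [0, 0, 0, 0, 0, 0, 1, -1],
    [1, 1, -1, 0, -1, -1, 1, 1], [-1, 0, 0, 1, 1, 0, 0, -1], [1, 0, -1, 0, 0, 0, 1, 0], [1, 0, 0,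
    -1, 0, -1, 0, 1], [0, 1, 0, -1, 0, 0, -1, 1], [0, 0, 1, -1, 0, 0, 0, 0], [1, 1, 0, -1, -1,
    -1, 0, 2], [-1, 0, 1, 0, 1, 0, -1, 0], [1, 0, 0, -1, 0, 0, 0, 1], [1, 1, -1, -1, 0, -1, 0,
    1], [1, 0, 0, -1, 0, -1, 1, 0], [2, 1, -1, -1, -1, -2, 1, 2], [0, 0, 0, 0, 1, -1, 0, 0], [2,
    0, -1, -1, 0, -1, 1, 1], [0, 1, 0, -1, 0, 0, 0, 0], [1, 2, -1, -1, -1, -1, 0, 2], [-1, 1, 0,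
    0, 1, 0, -1, 0], [1, 1, -1, -1, 0, 0, 0, 1], [1, 1, 0, -1, -1, -1, 1, 1], [-1, 0, 1, 0, 1, 0,
    0, -1], [1, 0, 0, -1, 0, 0, 1, 0], [0, 1, 0, 0, 0, -1, 0, 1], [2, 1, -1, -1, -1, -1, 1, 2],
    [0, 0, 0, 0, 1, 0, 0, 0], [-1, -1, 1, 1, 0, 1, -1, -1], [0, -1, 0, 1, 0, 0, 0, -1], [-1, 0,
    0, 1, 0, 1, -1, -1], [-1, -1, 1, 1, 0, 1, 0, -2], [0, 0, 0, 1, -1, 0, 0, 0], [-2, -1, 1, 2,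
    1, 1, -1, -2], [0, -1, 0, 1, 0, 1, 0, -1], [0, 0, 0, 0, 0, 0, -1, 0], [0, -1, 1, 0, 0, 0, 0,
    -1], [1, 0, 0, 0, -1, -1, 0, 1], [-1, -1, 1, 1, 1, 0, -1, -1], [1, -1, 0, 0, 0, 0, 0, 0],
    [-1, 0, 1, 0, 0, 1, -1, -1], [0, 1, 0, 0, -1, 0, -1, 1], [-2, 0, 1, 1, 1, 1, -2, -1], [0, 0,
    0, 0, 0, 1, -1, 0], [0, 0, 1, 0, -1, 0, 0, 0], [-2, -1, 2, 1, 1, 1, -1, -2], [0, -1, 1, 0, 0,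
    1, 0, -1], [-1, 0, 1, 1, 0, 0, -1, 0], [1, 0, 0, 0, -1, 0, 0, 1], [-1, -1, 1, 1, 1, 1, -1,
    -1], [0, 0, 0, 0, 0, 0, 0, -1], [1, 1, -1, 0, -1, -1, 0, 1], [-1, 0, 0, 1, 1, 0, -1, -1], [1,
    0, -1, 0, 0, 0, 0, 0], [1, 0, 0, 0, -1, -1, 1, 0], [-1, -1, 1, 1, 1, 0, 0, -2], [1, -1, 0, 0,
    0, 0, 1, -1], [0, 0, 0, 1, 0, -1, 0, 0], [2, 0, -1, 0, -1, -1, 1, 1], [0, -1, 0, 1, 1, 0, 0,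
    -1], [0, 1, 0, 0, -1, 0, 0, 0], [-2, 0, 1, 1, 1, 1, -1, -2], [0, 0, 0, 0, 0, 1, 0, -1], [-1,
    1, 0, 1, 0, 0, -1, 0], [1, 1, -1, 0, -1, 0, 0, 1], [-1, 0, 0, 1, 1, 1, -1, -1], [-1, 0, 1, 1,
    0, 0, 0, -1], [1, 0, 0, 0, -1, 0, 1, 0], [-1, -1, 1, 1, 1, 1, 0, -2], [0, 0, 0, 1, 0, 0, 0,
    0], [1, 1, 0, -1, -1, -1, 0, 1], [-1, 0, 1, 0, 1, 0, -1, -1], [1, 0, 0, -1, 0, 0, 0, 0], [0,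
    1, 0, 0, 0, -1, -1, 1], [2, 1, -1, -1, -1, -1, 0, 2], [0, 0, 0, 0, 1, 0, -1, 0], [0, 0, 1, 0,
    0, -1, 0, 0], [2, 0, 0, -1, -1, -1, 1, 1], [0, -1, 1, 0, 1, 0, 0, -1], [1, 0, 0, 0, 0, -1, 0,
    1], [-1, 1, 1, 0, 0, 0, -1, 0], [1, 1, 0, -1, -1, 0, 0, 1], [-1, 0, 1, 0, 1, 1, -1, -1], [0,
    1, 0, 0, 0, 0, -1, 1], [0, 0, 1, 0, 0, 0, 0, 0], [0, 1, 0, 0, 0, -1, 0, 0], [2, 1, -1, -1,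
    -1, -1, 1, 1], [0, 0, 0, 0, 1, 0, 0, -1], [1, 1, -1, 0, 0, -1, 0, 1], [1, 0, 0, 0, 0, -1, 1,
    0], [0, 1, 0, 0, 0, 0, 0, 0], [1, 1, 0, -1, 0, -1, 0, 1], [-1, 0, 1, 1, 0, 0, -1, -1], [1, 0,
    0, 0, -1, 0, 0, 0], [-1, -1, 1, 1, 1, 1, -1, -2], [0, 0, 0, 1, 0, 0, -1, 0], [0, -1, 1, 1, 0,
    0, 0, -1], [-1, 0, 1, 1, 0, 1, -1, -1], [0, 0, 0, 1, 0, 0, 0, -1], [0, 0, 1, 0, 0, 0, -1, 0],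
    [1, 0, 0, 0, 0, -1, 0, 0], [0, 1, 0, 0, 0, 0, -1, 0], [0, 0, 1, 0, 0, 0, 0, -1], [1, 1, 0, 0,
    -1, -1, 0, 1], [-1, 0, 1, 1, 1, 0, -1, -1], [1, 0, 0, 0, 0, 0, 0, 0]]

theorem certE8_chk : certE8.chk (tabE8.coord chevE8.rank) = true := by decide +kernel

end CfsgLib.ChevTori
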