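import Mathlib
import Cfsg.Agent.ChevField.Fixed
import Cfsg.Agent.ChevSteinberg.SteinbergTorus

/-!
Functoriality of the presented Steinberg group in the field, and the elements fixed by a field
endomorphism.
-/

set_option autoImplicit false

namespace CfsgLib.ChevTori

open Cfsg.Lie CfsgLib.Chevalley CfsgLib.ChevSteinberg CfsgLib.ChevField

variable {D : ChevalleyDatum} (S : Sys D) {E K : Type*} [Field E] [Field K] (f : E →+* K)

/-- The images of the generators under a field homomorphism. -/
noncomputable def stImage (g : Fin D.nroots × E) : D.SteinbergGroup K := D.stGen K g.1 (f g.2)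

theorem lift_stImage (r : ℕ) (t : E) :
    FreeGroup.lift (stImage (D := D) f) (D.stX r t) = D.stGen K r (f t) := by
  unfold ChevalleyDatum.stX
  split_ifs with h
  · rw [FreeGroup.lift_apply_of]; rfl
  · rw [map_one]; exact (pres_out h _).symm

theorem lift_stImage_word (w : List (ℕ × E)) :
    FreeGroup.lift (stImage (D := D) f) (D.stWord w) =
      PresentedGroup.mk (D.steinbergRels K) (D.stWord (w.map fun p => (p.1, f p.2))) := by
  rw [mk_stWord, ChevalleyDatum.stWord, map_list_prod, List.map_map, List.map_map]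
  exact congrArg List.prod (List.map_congr_left fun p _ => lift_stImage f p.1 p.2)

theorem lift_stImage_rels :
    ∀ g ∈ D.steinbergRels E, FreeGroup.lift (stImage (D := D) f) g = 1 := by
  rintro g ((⟨r, t₁, t₂, hr, rfl⟩ | ⟨r, s, t, u, hr, hs, h1, h2, rfl⟩) |
    ⟨r, t₁, t₂, hr, h1, h2, rfl⟩)
  · have h := PresentedGroup.one_of_mem (rels := D.steinbergRels K)
      (Or.inl (Or.inl ⟨r, f t₁, f t₂, hr, rfl⟩))
    simp only [map_mul, map_inv] at h
    simp only [map_mul, map_inv, lift_stImage, ChevalleyDatum.stGen, map_add]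
    exact h
  · have hw : (D.commWord E r s t u).map (fun p => (p.1, f p.2)) =
        D.commWord K r s (f t) (f u) := by
      simp [ChevalleyDatum.commWord, Function.comp_def]
    have h := PresentedGroup.one_of_mem (rels := D.steinbergRels K)
      (Or.inl (Or.inr ⟨r, s, f t, f u, hr, hs, h1, h2, rfl⟩))
    simp only [map_mul, map_inv] at h
    simp only [map_mul, map_inv, lift_stImage, lift_stImage_word, hw, ChevalleyDatum.stGen]
    exact h
  · have hw : ∀ c : E, (D.hWord r c).map (fun p => (p.1, f p.2)) = D.hWord r (f c) := by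
      intro c
      simp [ChevalleyDatum.hWord, ChevalleyDatum.nWord, map_inv₀]
    have h := PresentedGroup.one_of_mem (rels := D.steinbergRels K)
      (Or.inr ⟨r, f t₁, f t₂, hr, (map_ne_zero f).2 h1, (map_ne_zero f).2 h2, rfl⟩)
    simp only [map_mul, map_inv] at h
    simp only [map_mul, map_inv, ChevalleyDatum.stH, lift_stImage_word, hw]
    exact h

variable (D) in
/-- The homomorphism of Steinberg groups induced by a field homomorphism. -/
noncomputable def stMap : D.SteinbergGroup E →* D.SteinbergGroup K :=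
  PresentedGroup.toGroup (lift_stImage_rels f)

theorem stMap_y (r : ℕ) (t : E) :
    stMap D f ((groupSys S E).y r t) = (groupSys S K).y r (f t) := lift_stImage f r t

theorem θ_stMap (x : D.SteinbergGroup E) :
    (groupSys S K).θ (stMap D f x) = gmap D f ((groupSys S E).θ x) := by
  have : (groupSys S K).θ.comp (stMap D f) = (gmap D f).comp (groupSys S E).θ := by
    refine MonoidHom.eq_of_eqOn_dense (group_gen S E) ?_
    rintro _ ⟨r, -, t, rfl⟩
    rw [MonoidHom.comp_apply, MonoidHom.comp_apply, stMap_y S, (groupSys S K).θ_y,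
      (groupSys S E).θ_y, gmap_xG]
  exact DFunLike.congr_fun this x

include S in
theorem stMap_stMap {L : Type*} [Field L] (g : K →+* L) (x : D.SteinbergGroup E) :
    stMap D g (stMap D f x) = stMap D (g.comp f) x := by
  have : (stMap D g).comp (stMap D f) = stMap D (g.comp f) := by
    refine MonoidHom.eq_of_eqOn_dense (group_gen S E) ?_
    rintro _ ⟨r, -, t, rfl⟩
    rw [MonoidHom.comp_apply, stMap_y S, stMap_y S, stMap_y S, RingHom.comp_apply]
  exact DFunLike.congr_fun this x

theorem stMap_torHom (W : Witness S) (c : Fin D.rank → Eˣ) :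
    stMap D f ((groupSys S E).torHom (groupSys_mulH S E) W c) =
      (groupSys S K).torHom (groupSys_mulH S K) W (fun i => Units.map (f : E →* K) (c i)) := by
  have : (stMap D f).comp ((groupSys S E).torHom (groupSys_mulH S E) W) =
      ((groupSys S K).torHom (groupSys_mulH S K) W).comp
        (MonoidHom.pi fun i => (Units.map (f : E →* K)).comp
          (Pi.evalMonoidHom (fun _ : Fin D.rank => Eˣ) i)) := by
    refine MonoidHom.pi_ext fun i a => ?_
    rw [MonoidHom.comp_apply, MonoidHom.comp_apply, StSys.torHom_mulSingle]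
    have e : (MonoidHom.pi fun j => (Units.map (f : E →* K)).comp
        (Pi.evalMonoidHom (fun _ : Fin D.rank => Eˣ) j)) (Pi.mulSingle i a) =
        Pi.mulSingle i (Units.map (f : E →* K) a) := by
      funext j
      exact Pi.apply_mulSingle (fun _ => Units.map (f : E →* K)) (fun _ => map_one _) i a j
    rw [e, StSys.torHom_mulSingle]
    simp [StSys.hT, StSys.nT, stMap_y S, map_inv₀]
  exact DFunLike.congr_fun this c

include S in
/-- An element fixed by `φ` comes from the fixed field, if the torus map is injective. -/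
theorem exists_of_stMap_eq (W : Witness S) (φ : K →+* K) (hf : ∀ x, φ (f x) = f x)
    (hfix : ∀ x, φ x = x → ∃ y, f y = x)
    (hinj : Function.Injective ((groupSys S K).torHom (groupSys_mulH S K) W))
    {x : D.SteinbergGroup K} (hx : stMap D φ x = x) : ∃ z, stMap D f z = x := by
  set T := groupSys S K
  set τ := T.torHom (groupSys_mulH S K) W
  have hθφ : gmap D φ (T.θ x) = T.θ x := by rw [← θ_stMap, hx]
  obtain ⟨a, ⟨a0, ha0, rfl⟩, c, -, b, ⟨b0, hb0, rfl⟩, e⟩ :=
    exists_fixed_decomp S f φ hfix (groupProj S K x).2 hθφ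
  obtain ⟨za, hza⟩ := groupProj_surjective S E ⟨a0, ha0⟩
  obtain ⟨zb, hzb⟩ := groupProj_surjective S E ⟨b0, hb0⟩
  have hza' : (groupSys S E).θ za = a0 := congrArg Subtype.val hza
  have hzb' : (groupSys S E).θ zb = b0 := congrArg Subtype.val hzb
  let c' : Fin D.rank → Kˣ := fun i => c i
  have hc : T.θ (τ c') = tor D K c := by
    rw [← MonoidHom.comp_apply, T.θ_comp_torHom, StSys.torF, MonoidHom.comp_apply]
    refine Units.ext ?_
    rw [S.tor_val, S.tor_val]
    refine dg_congr fun s _ => ?_
    congr 1
    refine Finset.prod_congr rfl fun j hj => ?_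
    simp [extendOne, Finset.mem_range.mp hj, c']
  have hz : T.θ ((τ c')⁻¹ * (stMap D f za)⁻¹ * x * (stMap D f zb)⁻¹) = 1 := by
    rw [map_mul, map_mul, map_mul, map_inv, map_inv, map_inv, hc, θ_stMap, θ_stMap, hza', hzb',
      show T.θ x = gmap D f a0 * tor D K c * gmap D f b0 from e]
    group
  obtain ⟨d0, hd0⟩ := T.HT_le_range (groupSys_mulH S K) W (T.ker_le_HT W (group_gen S K) hz)
  have hxd : x = stMap D f za * τ (c' * d0) * stMap D f zb := by
    rw [map_mul, show τ d0 = _ from hd0]; group
  have hfixf : ∀ z, stMap D φ (stMap D f z) = stMap D f z := fun z => by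
    rw [stMap_stMap S, show φ.comp f = f from RingHom.ext hf]
  have hd : ∀ i, φ ((c' * d0) i : K) = ((c' * d0) i : K) := by
    have h := hx
    rw [hxd, map_mul, map_mul, hfixf, hfixf, stMap_torHom S, mul_left_inj, mul_right_inj] at h
    intro i
    exact congrArg Units.val (congrFun (hinj h) i)
  have hd' : ∀ i, ∃ u : Eˣ, Units.map (f : E →* K) u = (c' * d0) i := fun i => by
    obtain ⟨v, hv⟩ := hfix _ (hd i)
    refine ⟨Units.mk0 v fun h0 => ((c' * d0) i).ne_zero (by rw [← hv, h0, map_zero]), Units.ext hv⟩
  choose u hu using hd'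
  refine ⟨za * (groupSys S E).torHom (groupSys_mulH S E) W u * zb, ?_⟩
  rw [map_mul, map_mul, stMap_torHom S, hxd, funext hu]

end CfsgLib.ChevTori
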