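import Mathlib
import Cfsg.Agent.AlgLang.Main
import Cfsg.Agent.ChevField.Map

/-!
Lang's theorem for the Chevalley group of a datum over an algebraically closed field.
-/

set_option autoImplicit false

namespace CfsgLib.ChevTori

open Cfsg.Lie CfsgLib.Chevalley CfsgLib.ChevField

variable (D : ChevalleyDatum)

/-- The matrix of `x_r(t)` over a commutative ring. -/
def xRing (R : Type*) [CommRing R] (r : Fin D.nroots) (t : R) : Matrix D.Idx D.Idx R :=
  Matrix.of fun row col =>
    match col with
    | Sum.inl i =>
      (match row with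
       | Sum.inl i' => if i' = i then 1 else 0
       | Sum.inr u => if u = r then - (((D.cartanSR.getD i.val #[]).getD r.val 0 : ℤ) : R) * t else 0)
    | Sum.inr s =>
      if s = r then (match row with | Sum.inr u => if u = r then 1 else 0 | Sum.inl _ => 0)
      else if s.val = D.negIdx.getD r.val 0 then
        (match row with
         | Sum.inl i => (((D.coroot.getD r.val #[]).getD i.val 0 : ℤ) : R) * t
         | Sum.inr u => if u = s then 1 else if u = r then -(t ^ 2) else 0)
      else
        (match row with
         | Sum.inl _ => 0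
         | Sum.inr u => (if u = s then 1 else 0) +
             ((D.chainCoeff r.val s.val u.val).map fun km => ((km.2 : ℤ) : R) * t ^ km.1).sum)

theorem xRing_map {R R' : Type*} [CommRing R] [CommRing R'] (f : R →+* R') (r : Fin D.nroots)
    (t : R) : (xRing D R r t).map f = xRing D R' r (f t) := by
  ext row col
  simp only [Matrix.map_apply, xRing, Matrix.of_apply]
  rcases col with i | s
  · rcases row with i' | u <;> dsimp only <;> split_ifs <;> simp
  · rcases row with i' | u <;> dsimp only <;>
      split_ifs <;> simp [map_list_sum, Function.comp_def]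

variable {D}

/-- Lang's theorem for `D.group K`. -/
theorem exists_lang (S : Sys D) {K : Type*} [Field K] [IsAlgClosed K] {q : ℕ} (hq : 2 ≤ q)
    (φ : K →+* K) (hφ : ∀ x, φ x = x ^ q) {y : GL D.Idx K} (hy : y ∈ D.group K) :
    ∃ g ∈ D.group K, g⁻¹ * gmap D φ g = y := by
  let P : Fin D.nroots → Matrix D.Idx D.Idx (Polynomial K) := fun r =>
    xRing D (Polynomial K) r Polynomial.X
  have hpt : ∀ r t, AlgLang.pt P r t = D.x K r t := by
    intro r t
    rw [x_eq r.isLt]
    show (xRing D (Polynomial K) r Polynomial.X).map (Polynomial.evalRingHom t) = _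
    rw [xRing_map, Polynomial.coe_evalRingHom, Polynomial.eval_X]
    rfl
  refine AlgLang.exists_lang P hq φ hφ (fun r a b => ?_) (fun r => ?_) (fun r t => ?_) ?_ hy
  · have h := congrFun (congrFun (xRing_map D (Polynomial.mapRingHom φ) r Polynomial.X) a) b
    rwa [Matrix.map_apply, Polynomial.coe_mapRingHom, Polynomial.map_X] at h
  · rw [hpt]; exact S.x_zero K
  · rw [hpt, hpt, S.x_add, add_neg_cancel]; exact S.x_zero K
  · rw [S.group_eq]
    congr 1
    ext g
    constructor
    · rintro ⟨r, hr, t, rfl⟩
      exact ⟨⟨r, hr⟩, t, by rw [hpt]; rfl⟩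
    · rintro ⟨r, t, e⟩
      exact ⟨r, r.isLt, t, S.eq_xG K (by rw [e, hpt])⟩

end CfsgLib.ChevTori
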