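import Mathlib
import Cfsg.Agent.Chevalley.Core
import Cfsg.Agent.Chevalley.Parabolic

/-!
The centraliser of a torus element with different values on all roots is the torus.
-/

set_option autoImplicit false

namespace CfsgLib.ChevTori

open Cfsg.Lie CfsgLib.Chevalley

variable {D : ChevalleyDatum} (S : Sys D) {F : Type*} [Field F]

include S in
theorem xG_inj' {r : ℕ} (hr : r < D.nroots) {t u : F} (h : S.xG F r t = S.xG F r u) : t = u := by
  have h1 : S.xG F r (t - u) = 1 := by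
    rw [sub_eq_add_neg, ← S.xG_add, h, ← S.xG_inv, mul_inv_cancel]
  exact sub_eq_zero.1 ((S.xG_eq_one_iff F hr _).1 h1)

include S in
theorem tor_conj_ordProd (c : ℕ → Fˣ) (a : ℕ → F) :
    tor D F c * S.ordProd F a (D.nroots / 2) * (tor D F c)⁻¹ =
      S.ordProd F (fun r => (torusVal D c r : F) * a r) (D.nroots / 2) := by
  have h : ∀ l : List (ℕ × F), (∀ e ∈ l, e.1 < D.nroots) →
      tor D F c * S.wG F l * (tor D F c)⁻¹ =
        S.wG F (l.map fun e => (e.1, (torusVal D c e.1 : F) * e.2)) := by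
    intro l hl
    induction l with
    | nil => simp [Sys.wG]
    | cons e l ih =>
      rw [List.forall_mem_cons] at hl
      simp only [Sys.wG, List.map_cons, List.prod_cons] at ih ⊢
      rw [← ih hl.2, ← S.tor_conj F c hl.1]
      group
  rw [Sys.ordProd, Sys.ordProd, h _ fun e he => ?_, List.map_map]
  · rfl
  · obtain ⟨r, hr, rfl⟩ := List.mem_map.1 he
    simp only [List.mem_range', one_mul] at hr
    obtain ⟨i, hi, rfl⟩ := hr
    simp only
    omega

include S in
theorem eq_one_of_tor_conj (c : ℕ → Fˣ) (hc : ∀ r < D.nroots, torusVal D c r ≠ 1) {P : Set ℕ}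
    (hP : S.Closed P) {u : GL D.Idx F} (hu : u ∈ uSub D F P)
    (h : tor D F c * u * (tor D F c)⁻¹ = u) : u = 1 := by
  obtain ⟨a, -, rfl⟩ := S.exists_ordProd_half F hP hu
  rw [tor_conj_ordProd S] at h
  have h0 : ∀ r, D.nroots / 2 ≤ r → r < D.nroots → a r = 0 := fun r h1 h2 => by
    have h3 := S.ordProd_inj_half F h h1 h2
    by_contra h4
    exact hc r h2 (Units.ext (mul_eq_right₀ h4 |>.1 h3))
  rw [S.ordProd_congr F (u := 0) fun r h1 h2 => h0 r h1 h2]
  refine List.prod_eq_one fun g hg => ?_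
  simp only [List.map_map, List.mem_map, Function.comp_apply] at hg
  obtain ⟨r, -, rfl⟩ := hg
  exact S.xG_zero F r

include S in
theorem torusVal_neg (c : ℕ → Fˣ) {r : ℕ} (hr : r < D.nroots) :
    torusVal D c (D.neg r) = (torusVal D c r)⁻¹ := by
  simp only [torusVal, ← Finset.prod_inv_distrib]
  refine Finset.prod_congr rfl fun j hj => ?_
  rw [S.cartan_neg hr (Finset.mem_range.mp hj), zpow_neg]

include S in
/-- The centraliser of a regular torus element lies in the torus. -/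
theorem mem_diagonal_of_regular (c : ℕ → Fˣ)
    (hne : ∀ r < D.nroots, torusVal D c r ≠ 1)
    (hstab : ∀ L : List (Fin D.rank),
      (∀ r : Fin D.nroots, torusVal D c (S.wperm L r) = torusVal D c r) → S.wperm L = 1)
    {g : GL D.Idx F}
    (hg : g ∈ D.group F) (hcomm : tor D F c * g = g * tor D F c) :
    g ∈ D.diagonalSubgroup F := by
  obtain ⟨b, hb, n, u, hu, rfl⟩ := S.normal_form_exists F hg
  set t := tor D F c with ht
  have htd : t ∈ D.diagonalSubgroup F := by rw [S.diagonal_eq]; exact ⟨c, rfl⟩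
  have hnt : (n : GL D.Idx F) * t⁻¹ * (n : GL D.Idx F)⁻¹ ∈ D.diagonalSubgroup F :=
    (Subgroup.mem_normalizer_iff.mp (S.monomial_le_normalizer F n.2) _).mp (inv_mem htd)
  have hneg : ∀ z ∈ uSub D F (S.flipSet F n),
      (n : GL D.Idx F) * z * (n : GL D.Idx F)⁻¹ ∈ D.negUnipotent F := by
    intro z hz
    refine closure_conj_mem ?_ hz
    rintro y ⟨r, s, ⟨⟨hr, hr1⟩, -⟩, hy⟩
    obtain ⟨c', -, hct⟩ := S.conj_root F n ⟨r, hr⟩
    rw [S.eq_xG F hy, show S.xG F r s = S.xG F (⟨r, hr⟩ : Fin D.nroots) s from rfl, (hct s).1]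
    exact S.xG_mem_negUnipotent F hr1 _
  have he : (t * b * ((n : GL D.Idx F) * t⁻¹ * (n : GL D.Idx F)⁻¹)) * n * (t * u * t⁻¹) =
      b * n * u := by
    calc _ = t * (b * n * u) * t⁻¹ := by group
      _ = _ := by rw [hcomm]; group
  have hbt : t * b * ((n : GL D.Idx F) * t⁻¹ * (n : GL D.Idx F)⁻¹) ∈ D.borelSubgroup F :=
    mul_mem (mul_mem (Subgroup.mem_sup_right htd) hb) (Subgroup.mem_sup_right hnt)
  have hut : t * u * t⁻¹ ∈ uSub D F (S.flipSet F n) := S.tor_conj_uSub F c hu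
  obtain ⟨e1, e2⟩ := S.normal_form_unique F hbt hb (hneg _ hut) (hneg _ hu) he
  have hu1 : u = 1 := eq_one_of_tor_conj S c hne (S.closed_flipSet F n) hu e2
  obtain ⟨v, hv, d, rfl⟩ := (S.mem_borel F).mp hb
  have hdd : tor D F d ∈ D.diagonalSubgroup F := by rw [S.diagonal_eq]; exact ⟨d, rfl⟩
  have hvt : t * v * t⁻¹ ∈ D.posUnipotent F := by
    rw [← uSub_univ] at hv ⊢
    exact S.tor_conj_uSub F c hv
  set k := t * tor D F d * ((n : GL D.Idx F) * t⁻¹ * (n : GL D.Idx F)⁻¹) with hk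
  have hkd : k ∈ D.diagonalSubgroup F := mul_mem (mul_mem htd hdd) hnt
  have e3 : (t * v * t⁻¹) * k = v * tor D F d := by rw [← e1, hk]; group
  have e4 : v⁻¹ * (t * v * t⁻¹) = tor D F d * k⁻¹ := by
    calc v⁻¹ * (t * v * t⁻¹) = v⁻¹ * ((t * v * t⁻¹) * k) * k⁻¹ := by group
      _ = _ := by rw [e3]; group
  have hmem : v⁻¹ * (t * v * t⁻¹) ∈ D.posUnipotent F ⊓ D.diagonalSubgroup F :=
    Subgroup.mem_inf.2 ⟨mul_mem (inv_mem hv) hvt, e4 ▸ mul_mem hdd (inv_mem hkd)⟩
  rw [S.posUnipotent_inf_diagonal F, Subgroup.mem_bot] at hmem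
  have hv1 : v = 1 := eq_one_of_tor_conj S c hne S.closed_univ (by rw [uSub_univ]; exact hv)
    (inv_mul_eq_one.1 hmem).symm
  have e5 : (n : GL D.Idx F) * t * (n : GL D.Idx F)⁻¹ = t := by
    rw [hmem, eq_comm, mul_inv_eq_one, hk] at e4
    have e6 : t * tor D F d = tor D F d * t := S.diagonal_comm F htd hdd
    have e7 : tor D F d = tor D F d * (t * ((n : GL D.Idx F) * t⁻¹ * (n : GL D.Idx F)⁻¹)) := by
      rw [← mul_assoc, ← e6]; exact e4
    rw [left_eq_mul, mul_eq_one_iff_eq_inv] at e7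
    calc (n : GL D.Idx F) * t * (n : GL D.Idx F)⁻¹
        = ((n : GL D.Idx F) * t⁻¹ * (n : GL D.Idx F)⁻¹)⁻¹ := by group
      _ = t := e7.symm
  have hperm : S.perm F n = 1 := by
    obtain ⟨L, hL⟩ := S.exists_wperm F n
    rw [hL]
    refine hstab L fun r => ?_
    rw [← hL]
    obtain ⟨c', hc', hct⟩ := S.conj_root F n r
    have h1 := S.tor_conj F c (S.perm F n r).isLt (c' * 1)
    rw [← (hct 1).1, ← ht] at h1
    have h2 : t * ((n : GL D.Idx F) * S.xG F r 1 * (n : GL D.Idx F)⁻¹) * t⁻¹ =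
        (n : GL D.Idx F) * (t * S.xG F r 1 * t⁻¹) * (n : GL D.Idx F)⁻¹ := by
      calc _ = ((n : GL D.Idx F) * t * (n : GL D.Idx F)⁻¹) *
            ((n : GL D.Idx F) * S.xG F r 1 * (n : GL D.Idx F)⁻¹) *
            ((n : GL D.Idx F) * t * (n : GL D.Idx F)⁻¹)⁻¹ := by rw [e5]
        _ = _ := by group
    rw [h2, ht, S.tor_conj F c r.isLt, (hct _).1] at h1
    have h3 := ChevTori.xG_inj' S (S.perm F n r).isLt h1
    have h4 : torusVal D c r = torusVal D c (S.perm F n r) := by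
      refine Units.ext (mul_left_cancel₀ hc' ?_)
      rw [mul_one] at h3
      rw [h3]; ring
    exact h4.symm
  have hn : (n : GL D.Idx F) ∈ D.diagonalSubgroup F := by
    have : n ∈ (S.perm F).ker := hperm
    rwa [S.ker_perm F] at this
  rw [hu1, hv1, mul_one, one_mul]
  exact mul_mem hdd hn

end CfsgLib.ChevTori
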