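import Mathlib
import Cfsg.Agent.ChevTori.LangChev
import Cfsg.Agent.ChevTori.Fixed
import Cfsg.Agent.ChevTori.Regular
import Cfsg.Agent.ChevTori.Cert

/-!
Self-centralising cyclic subgroups of finite Chevalley groups from twisted maximal tori: the
element of the Weyl group is given by a certificate, the torus is moved into the finite group by
Lang's theorem.
-/

set_option autoImplicit false

namespace CfsgLib.ChevTori

open Cfsg.Lie CfsgLib.Chevalley CfsgLib.ChevSteinberg CfsgLib.ChevField

universe u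

/-- The `q`-power endomorphism of an algebraically closed extension, fixing exactly the field. -/
theorem exists_frobenius (F : Type*) [Field F] [Fintype F] (K : Type*) [Field K] [Algebra F K] :
    ∃ φ : K →+* K, (∀ x, φ x = x ^ Fintype.card F) ∧
      ∀ x, φ x = x → ∃ y, algebraMap F K y = x := by
  obtain ⟨p, hp⟩ := CharP.exists F
  obtain ⟨n, hpp, hcard⟩ := FiniteField.card F p
  haveI : Fact p.Prime := ⟨hpp⟩
  haveI : CharP K p := charP_of_injective_algebraMap (algebraMap F K).injective p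
  refine ⟨iterateFrobenius K p n, fun x => by rw [iterateFrobenius_def, hcard], fun x hx => ?_⟩
  rw [iterateFrobenius_def, ← hcard] at hx
  classical
  set q := Fintype.card F
  have hq1 : 1 < q := Fintype.one_lt_card
  let S : Finset K := Finset.univ.image (algebraMap F K)
  have hS : S.card = q := by
    rw [Finset.card_image_of_injective _ (algebraMap F K).injective]; rfl
  have hne : (Polynomial.X ^ q - Polynomial.X : Polynomial K) ≠ 0 :=
    FiniteField.X_pow_card_sub_X_ne_zero K hq1
  have hsub : S ⊆ (Polynomial.X ^ q - Polynomial.X : Polynomial K).roots.toFinset := by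
    intro y hy
    obtain ⟨a, -, rfl⟩ := Finset.mem_image.1 hy
    simp only [Multiset.mem_toFinset, Polynomial.mem_roots hne, Polynomial.IsRoot.def,
      Polynomial.eval_sub, Polynomial.eval_pow, Polynomial.eval_X]
    rw [← map_pow, FiniteField.pow_card, sub_self]
  have heq : S = (Polynomial.X ^ q - Polynomial.X : Polynomial K).roots.toFinset := by
    refine Finset.eq_of_subset_of_card_le hsub ?_
    rw [hS]
    refine (Multiset.toFinset_card_le _).trans ((Polynomial.card_roots' _).trans ?_)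
    exact (FiniteField.X_pow_card_sub_X_natDegree_eq K hq1).le
  have : x ∈ S := by
    rw [heq]
    simp [Polynomial.mem_roots hne, hx]
  obtain ⟨a, -, ha⟩ := Finset.mem_image.1 this
  exact ⟨a, ha⟩

variable {D : ChevalleyDatum}

theorem torusVal_extendOne {K : Type*} [Field K] (c : Fin D.rank → Kˣ) (s : ℕ) :
    torusVal D (extendOne D.rank Kˣ c) s = ∏ j : Fin D.rank, c j ^ D.cartan j s := by
  rw [torusVal, Finset.prod_range]
  refine Finset.prod_congr rfl fun j _ => ?_
  show (if h : (j : ℕ) < D.rank then c ⟨j, h⟩ else 1) ^ _ = _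
  rw [dif_pos j.isLt]

theorem prod_zpow_zpow {l : ℕ} {A : Type*} [CommGroup A] (z : A) (a b : Fin l → ℤ) :
    ∏ j, (z ^ a j) ^ b j = z ^ ∑ j, a j * b j := by
  rw [← prod_zpow_sum]
  exact Finset.prod_congr rfl fun j _ => (zpow_mul z _ _).symm

/-- A solution of the twisted equation is a power of the generator. -/
theorem solution_eq {l : ℕ} {A : Type*} [CommGroup A] {q N : ℤ} (M : Matrix (Fin l) (Fin l) ℤ)
    (c : Fin l → A) (hc : ∀ k, ∏ j, (c j ^ q) ^ M k j = c k) (u v : Fin l → ℤ)
    (hinv : ∀ k, ∃ B : Fin l → ℤ, ∀ j,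
      (if k = j then 1 else 0) - v k * u j = ∑ i, B i * (q * M i j - if i = j then 1 else 0))
    (hord : ∃ b : Fin l → ℤ, ∀ j, N * u j = ∑ i, b i * (q * M i j - if i = j then 1 else 0)) :
    (∏ j, c j ^ u j) ^ N = 1 ∧ ∀ k, c k = (∏ j, c j ^ u j) ^ v k := by
  classical
  have key : ∀ (b w : Fin l → ℤ),
      (∀ j, w j = ∑ i, b i * (q * M i j - if i = j then 1 else 0)) → ∏ j, c j ^ w j = 1 := by
    intro b w hw
    have h1 : ∀ i, ∏ j, c j ^ (q * M i j - if i = j then (1 : ℤ) else 0) = 1 := by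
      intro i
      simp only [zpow_sub, Finset.prod_mul_distrib, Finset.prod_inv_distrib, zpow_mul]
      rw [hc i, Finset.prod_eq_single i (fun j _ hj => by simp [Ne.symm hj])
        (fun h => absurd (Finset.mem_univ i) h)]
      simp
    calc ∏ j, c j ^ w j = ∏ j, ∏ i, (c j ^ (q * M i j - if i = j then (1 : ℤ) else 0)) ^ b i := by
          refine Finset.prod_congr rfl fun j _ => ?_
          rw [hw, ← prod_zpow_sum]
          exact Finset.prod_congr rfl fun i _ => by rw [← zpow_mul, mul_comm]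
      _ = 1 := by
        rw [Finset.prod_comm]
        exact Finset.prod_eq_one fun i _ => by rw [Finset.prod_zpow, h1, one_zpow]
  refine ⟨?_, fun k => ?_⟩
  · obtain ⟨b, hb⟩ := hord
    have := key b _ hb
    simp only [← Finset.prod_zpow, ← zpow_mul]
    simpa [mul_comm] using this
  · obtain ⟨B, hB⟩ := hinv k
    have := key B _ hB
    simp only [zpow_sub, Finset.prod_mul_distrib, Finset.prod_inv_distrib] at this
    rw [mul_inv_eq_one, Finset.prod_eq_single k (fun j _ hj => by simp [Ne.symm hj])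
      (fun h => absurd (Finset.mem_univ k) h)] at this
    simp only [↓reduceIte, zpow_one] at this
    rw [this, ← Finset.prod_zpow]
    exact Finset.prod_congr rfl fun j _ => by rw [← zpow_mul, mul_comm]

/-- The twisted torus of a certified Weyl word gives a self-centralising cyclic subgroup. -/
theorem exists_torus (S : Sys D) (W : Witness S) {F : Type u} [Field F] [Fintype F] {q : ℕ}
    (hq : Fintype.card F = q) (C : TorusCert D) (hchk : C.chk S.vec = true)
    (hinj : ∀ (K : Type u) [Field K],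
      Function.Injective ((groupSys S K).torHom (groupSys_mulH S K) W))
    (hbig : 6 ≤ q → 4 * ((q : ℤ) ^ D.rank - 1) < ((q : ℤ) - 1) * lev q C.N)
    {Nn : ℕ} (hN : (Nn : ℤ) = lev q C.N) :
    ∃ H : Subgroup ↥(D.group F), IsCyclic ↥H ∧ Nat.card ↥H = Nn / Nat.gcd C.d (q - 1) ∧
      Subgroup.centralizer (H : Set ↥(D.group F)) = H := by
  have hq2 : 2 ≤ q := hq ▸ Fintype.one_lt_card
  have hfacts := C.facts S hchk q (by omega) (fun h => hbig (by exact_mod_cast h))
  obtain ⟨hM, hfix, hinv, hord, hcombd, hcombq, hgk, hgN, hhead, hnz, hstab⟩ := hfacts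
  let K := AlgebraicClosure F
  let f : F →+* K := algebraMap F K
  obtain ⟨φ, hφ, hφfix⟩ := exists_frobenius F K
  rw [hq] at hφ
  have hφf : ∀ x, φ (f x) = f x := fun x => by
    rw [hφ, ← map_pow, ← hq, FiniteField.pow_card]
  set T := groupSys S K
  set τ := T.torHom (groupSys_mulH S K) W
  -- Lang
  have hy : ((S.wN K C.word : ↥(D.monomialSubgroup K)) : GL D.Idx K) ∈ D.group K :=
    S.monomial_le_group K (S.wN K C.word).2
  obtain ⟨g, hg, hgy⟩ := exists_lang S hq2 φ hφ hy
  obtain ⟨gs, hgs⟩ := groupProj_surjective S K ⟨g, hg⟩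
  have hgs' : T.θ gs = g := congrArg Subtype.val hgs
  have hker : T.θ (gs⁻¹ * stMap D φ gs * (T.wT C.word)⁻¹) = 1 := by
    rw [map_mul, map_mul, map_inv, map_inv, θ_stMap, T.θ_wT, hgs', hgy, mul_inv_cancel]
  obtain ⟨d0, hd0⟩ := T.HT_le_range (groupSys_mulH S K) W (T.ker_le_HT W (group_gen S K) hker)
  set n := τ d0 * T.wT C.word with hn
  have hng : stMap D φ gs = gs * n := by
    rw [hn, show τ d0 = _ from hd0]; group
  have hnconj : ∀ c, n * τ c * n⁻¹ = τ (matAct C.M c) := by
    intro c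
    rw [hM]
    calc n * τ c * n⁻¹ = τ d0 * (T.wT C.word * τ c * (T.wT C.word)⁻¹) * (τ d0)⁻¹ := by
          rw [hn]; group
      _ = τ d0 * τ (matAct (wMat D C.word) c) * (τ d0)⁻¹ := by
          rw [wT_conj_torHom T (groupSys_mulH S K) W]
      _ = _ := by rw [← map_inv, ← map_mul, ← map_mul, mul_comm d0, mul_inv_cancel_right]
  have hΦτ : ∀ c, stMap D φ (τ c) = τ (c ^ q) := by
    intro c
    rw [stMap_torHom S]
    refine congrArg τ (funext fun i => Units.ext ?_)
    simpa using hφ (c i : K)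
  have hΦ : ∀ c, stMap D φ (gs * τ c * gs⁻¹) = gs * τ (matAct C.M (c ^ q)) * gs⁻¹ := by
    intro c
    rw [map_mul, map_mul, map_inv, hΦτ, hng, ← hnconj]
    group
  -- the root of unity
  have hqK : (q : K) = 0 := by
    rw [← map_natCast f, ← hq, FiniteField.cast_card_eq_zero, map_zero]
  haveI : NeZero (Nn : K) := ⟨fun h0 => by
    obtain ⟨m, hm⟩ := hhead
    rw [← hN] at hm
    have h2 := congrArg (Int.castRingHom K) hm
    rw [map_sub, map_mul, map_one, map_natCast, map_natCast, h0, hqK] at h2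
    simp at h2⟩
  haveI : NeZero Nn := NeZero.of_neZero_natCast K
  obtain ⟨ζ0, hζ0⟩ := HasEnoughRootsOfUnity.exists_primitiveRoot K Nn
  obtain ⟨ζ, rfl⟩ := hζ0.isUnit (NeZero.ne Nn)
  have hζ : IsPrimitiveRoot ζ Nn := IsPrimitiveRoot.coe_units_iff.1 hζ0
  have hζN : ∀ z : ℤ, ζ ^ z = 1 ↔ lev q C.N ∣ z := fun z => by
    rw [← hN]; exact hζ.zpow_eq_one_iff_dvd z
  let v : Fin D.rank → ℤ := fun j => lev q (C.v.getD j [])
  let c0 : Fin D.rank → Kˣ := fun j => ζ ^ v j
  have hc0 : matAct C.M (c0 ^ q) = c0 := by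
    funext k
    obtain ⟨e, he⟩ := hfix k
    show ∏ j, ((ζ ^ v j) ^ q) ^ C.M k j = ζ ^ v k
    simp only [← zpow_natCast, ← zpow_mul]
    rw [prod_zpow_sum, ← mul_inv_eq_one, ← zpow_neg, ← zpow_add, hζN]
    exact ⟨e, by rw [← he, ← sub_eq_add_neg]; congr 1; exact Finset.sum_congr rfl fun j _ => by ring⟩
  obtain ⟨x0, hx0⟩ := exists_of_stMap_eq S f W φ hφf hφfix (hinj K) (x := gs * τ c0 * gs⁻¹)
    (by rw [hΦ, hc0])
  let h : ↥(D.group F) := groupProj S F x0
  have hh : gmap D f (h : GL D.Idx F) = g * StSys.torF D K c0 * g⁻¹ := by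
    show gmap D f ((groupSys S F).θ x0) = _
    rw [← θ_stMap, hx0, map_mul, map_mul, map_inv, hgs', ← T.θ_comp_torHom (groupSys_mulH S K) W]
    rfl
  have hval : ∀ r, torusVal D (extendOne D.rank Kˣ c0) r = ζ ^ lev q (C.rootP r) := by
    intro r
    rw [torusVal_extendOne, prod_zpow_zpow]
    congr 1
    rw [TorusCert.rootP, lev_lsum]
    exact Finset.sum_congr rfl fun j _ => by rw [lev_lsc, mul_comm]
  -- the order of the generator
  set gd := Nat.gcd C.d (q - 1) with hgd
  have hgdZ : (gd : ℤ) = Int.gcd (C.d : ℤ) ((q : ℤ) - 1) := by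
    rw [hgd, show ((q : ℤ) - 1) = ((q - 1 : ℕ) : ℤ) by omega, Int.gcd_natCast_natCast]
  have hgdpos : 0 < gd := Nat.gcd_pos_of_pos_right _ (by omega)
  have hgdN : gd ∣ Nn := by
    have : (gd : ℤ) ∣ (Nn : ℤ) := by rw [hgdZ, hN]; exact hgN
    exact_mod_cast this
  have horder : ∀ m : ℤ, h ^ m = 1 ↔ ((Nn / gd : ℕ) : ℤ) ∣ m := by
    intro m
    have e1 : h ^ m = 1 ↔ StSys.torF D K (c0 ^ m) = 1 := by
      rw [← Subtype.coe_inj, Subgroup.coe_zpow, Subgroup.coe_one,
        ← (gmap_injective (D := D) f).eq_iff, map_zpow, map_one, hh, conj_zpow,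
        conj_eq_one_iff, map_zpow]
    rw [e1, ← MonoidHom.mem_ker, mem_ker_torF (S := S)]
    have e2 : ∀ k : Fin D.rank, ∏ j, (c0 ^ m) j ^ D.cartan j (D.simple k) =
        ζ ^ (m * lev q (C.rootP (D.simple k))) := by
      intro k
      rw [← torusVal_extendOne]
      show torusVal D (extendOne D.rank Kˣ (c0 ^ m)) (D.simple k) = _
      rw [torusVal_extendOne]
      simp only [Pi.pow_apply, ← zpow_mul, c0]
      rw [prod_zpow_sum]
      congr 1
      rw [TorusCert.rootP, lev_lsum, Finset.mul_sum]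
      exact Finset.sum_congr rfl fun j _ => by rw [lev_lsc]; ring
    simp only [e2, hζN]
    have hNsplit : lev q C.N = ((Nn / gd : ℕ) : ℤ) * gd := by
      rw [← hN, ← Nat.cast_mul, Nat.div_mul_cancel hgdN]
    constructor
    · intro hall
      obtain ⟨a, c, hd⟩ := hcombd
      obtain ⟨a', c', hd'⟩ := hcombq
      have h1 : lev q C.N ∣ m * C.d := by
        rw [← hd, mul_add, Finset.mul_sum]
        exact dvd_add (Dvd.intro_left (m * a) (by ring)) (Finset.dvd_sum fun k _ => by
          rw [show m * (c k * _) = c k * (m * lev q (C.rootP (D.simple k))) by ring]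
          exact Dvd.dvd.mul_left (hall k) _)
      have h2 : lev q C.N ∣ m * ((q : ℤ) - 1) := by
        rw [← hd', mul_add, Finset.mul_sum]
        exact dvd_add (Dvd.intro_left (m * a') (by ring)) (Finset.dvd_sum fun k _ => by
          rw [show m * (c' k * _) = c' k * (m * lev q (C.rootP (D.simple k))) by ring]
          exact Dvd.dvd.mul_left (hall k) _)
      have h3 : lev q C.N ∣ m * (gd : ℤ) := by
        rw [hgdZ, Int.gcd_eq_gcd_ab, mul_add, ← mul_assoc, ← mul_assoc]
        exact dvd_add (h1.mul_right _) (h2.mul_right _)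
      rw [hNsplit] at h3
      exact Int.dvd_of_mul_dvd_mul_right (by omega) h3
    · rintro ⟨t, rfl⟩ k
      obtain ⟨s, hs⟩ := hgk k
      rw [hs, ← hgdZ, hNsplit]
      exact ⟨t * s, by ring⟩
  refine ⟨Subgroup.zpowers h, inferInstance, ?_, le_antisymm (fun x hx => ?_)
    (Subgroup.le_centralizer _)⟩
  · rw [Nat.card_zpowers]
    refine Nat.dvd_antisymm ?_ ?_
    · rw [← Int.natCast_dvd_natCast, orderOf_dvd_iff_zpow_eq_one, horder]
    · rw [← Int.natCast_dvd_natCast, ← horder, zpow_natCast]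
      exact pow_orderOf_eq_one h
  -- the centraliser
  have hxh : h * x = x * h := Subgroup.mem_centralizer_iff.1 hx h (Subgroup.mem_zpowers h)
  have hxh' : gmap D f (h : GL D.Idx F) * gmap D f (x : GL D.Idx F) =
      gmap D f (x : GL D.Idx F) * gmap D f (h : GL D.Idx F) := by
    rw [← map_mul, ← map_mul, ← Subgroup.coe_mul, hxh, Subgroup.coe_mul]
  rw [hh] at hxh'
  have hy' : g⁻¹ * gmap D f (x : GL D.Idx F) * g ∈ D.diagonalSubgroup K := by
    refine mem_diagonal_of_regular S (extendOne D.rank Kˣ c0) ?_ ?_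
      (mul_mem (mul_mem (inv_mem hg) (gmap_mem S f x.2)) hg) ?_
    · intro r hr he
      rw [hval, hζN] at he
      exact hnz r hr he
    · intro L hL
      refine hstab L fun r => ?_
      have he := hL r
      rw [hval, hval, ← mul_inv_eq_one, ← zpow_neg, ← zpow_add, hζN, ← sub_eq_add_neg] at he
      exact he
    · show StSys.torF D K c0 * _ = _ * StSys.torF D K c0
      calc StSys.torF D K c0 * (g⁻¹ * gmap D f (x : GL D.Idx F) * g)
          = g⁻¹ * ((g * StSys.torF D K c0 * g⁻¹) * gmap D f (x : GL D.Idx F)) * g := by group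
        _ = _ := by rw [hxh']; group
  rw [S.diagonal_eq] at hy'
  obtain ⟨cy, hcy⟩ := hy'
  obtain ⟨xs, hxs⟩ := groupProj_surjective S F x
  have hxs' : (groupSys S F).θ xs = x := congrArg Subtype.val hxs
  have htor : StSys.torF D K (fun i => cy i) = tor D K cy := by
    rw [StSys.torF, MonoidHom.comp_apply]
    refine Units.ext ?_
    rw [S.tor_val, S.tor_val]
    refine dg_congr fun s _ => ?_
    congr 1
    refine Finset.prod_congr rfl fun j hj => ?_
    simp [extendOne, Finset.mem_range.mp hj]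
  have hz : T.θ ((τ fun i => cy i)⁻¹ * (gs⁻¹ * stMap D f xs * gs)) = 1 := by
    rw [map_mul, map_mul, map_mul, map_inv, map_inv, ← MonoidHom.comp_apply, T.θ_comp_torHom,
      htor, θ_stMap, hgs', hxs', hcy, inv_mul_cancel]
  obtain ⟨d1, hd1⟩ := T.HT_le_range (groupSys_mulH S K) W (T.ker_le_HT W (group_gen S K) hz)
  set c := (fun i => cy i : Fin D.rank → Kˣ) * d1 with hc
  have hxc : stMap D f xs = gs * τ c * gs⁻¹ := by
    rw [hc, map_mul, show τ d1 = _ from hd1]; group
  have hfixc : matAct C.M (c ^ q) = c := by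
    have h1 : stMap D φ (stMap D f xs) = stMap D f xs := by
      rw [stMap_stMap S, show φ.comp f = f from RingHom.ext hφf]
    rw [hxc, hΦ, mul_left_inj, mul_right_inj] at h1
    exact hinj K h1
  obtain ⟨hzN, hcz⟩ := solution_eq (q := (q : ℤ)) (N := lev q C.N) C.M c
    (fun k => by
      have := congrFun hfixc k
      simpa [matAct, Pi.pow_apply, zpow_natCast] using this)
    (fun j => C.u.getD j 0) v hinv hord
  set z := ∏ j, c j ^ C.u.getD j 0
  rw [← hN, zpow_natCast] at hzN
  obtain ⟨m, -, hm⟩ := hζ0.eq_pow_of_pow_eq_one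
    (show (z : K) ^ Nn = 1 by rw [← Units.val_pow_eq_pow_val, hzN, Units.val_one])
  have hzm : z = ζ ^ m := Units.ext (by rw [Units.val_pow_eq_pow_val]; exact hm.symm)
  have hcm : c = c0 ^ m := by
    funext k
    rw [hcz k, hzm, Pi.pow_apply, ← zpow_natCast, ← zpow_natCast, ← zpow_mul, ← zpow_mul, mul_comm]
  refine ⟨(m : ℤ), Subtype.ext (gmap_injective f ?_)⟩
  show gmap D f ((h ^ (m : ℤ) : ↥(D.group F)) : GL D.Idx F) = _
  rw [zpow_natCast, Subgroup.coe_pow, map_pow, hh, conj_pow, ← map_pow, ← hxs', ← θ_stMap, hxc,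
    hcm, map_mul, map_mul, map_inv, hgs', ← T.θ_comp_torHom (groupSys_mulH S K) W]
  rfl

end CfsgLib.ChevTori
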